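import Mathlib
import Cfsg.Agent.NE.Rho

/-! The set `UU` and the property `NV`. -/

set_option autoImplicit false
set_option linter.unusedSectionVars false

namespace Cfsg.Agent.NE.B8

open Cfsg.Agent.Inv.Fz Cfsg.Agent.Rec Subgroup

variable {G : Type*} [Group G] [Finite G] {b : B8 G}

variable {Q : Subgroup G}

theorem UU.exists_norm (hQ : Con b.z b.S Q) {w : G} (hw : b.UU w) :
    ∃ n ∈ normalizer (Q : Set G), n * b.z = b.z * n ∧ n * b.u * n⁻¹ = w := by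
  obtain ⟨h1, c, hc, rfl⟩ := hw
  exact hQ.ctrl c hc b.u b.u_mem h1

theorem UU.memQ (hQ : Con b.z b.S Q) {w : G} (hw : b.UU w) : w ∈ Q := by
  obtain ⟨n, hn, -, rfl⟩ := hw.exists_norm hQ
  exact (conj_mem_norm hn).2 (hQ.mem _ b.u_mem fun q hq => b.u_conj q (hQ.le hq))

theorem UU.conj_of_mem {x n : G} (hx : b.UU x) (hz : n * b.z = b.z * n) (h : n * x * n⁻¹ ∈ b.S) :
    b.UU (n * x * n⁻¹) := by
  obtain ⟨-, c, hc, rfl⟩ := hx
  exact ⟨h, n * c, by rw [mul_assoc, hc, ← mul_assoc, hz, mul_assoc], (conj_conj ..).symm⟩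

theorem UU.conj {x s : G} (hx : b.UU x) (hs : s ∈ b.S) : b.UU (s * x * s⁻¹) :=
  hx.conj_of_mem (b.z_comm s hs) (mul_mem (mul_mem hs hx.1) (inv_mem hs))

theorem UU.sq {w : G} (hw : b.UU w) : w * w = 1 := by
  obtain ⟨-, c, -, rfl⟩ := hw
  exact conj_sq b.u_sq

theorem UU.mem (hQ : Con b.z b.S Q) {w : G} (hw : b.UU w) :
    w ∈ Q ∧ (∀ q ∈ Q, q * w * q⁻¹ = w ∨ q * w * q⁻¹ = w * b.z) ∧
      ∃ n : G, n * b.z = b.z * n ∧ n * b.u * n⁻¹ = w ∧ ∀ x, b.UU x ↔ b.UU (n * x * n⁻¹) := by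
  obtain ⟨n, hn, hz, rfl⟩ := hw.exists_norm hQ
  refine ⟨hw.memQ hQ, fun q hq => ?_, n, hz, rfl, fun x => ⟨fun hx =>
    hx.conj_of_mem hz (hQ.le ((conj_mem_norm hn).2 (hx.memQ hQ))), fun hx => ?_⟩⟩
  · have e : q * (n * b.u * n⁻¹) * q⁻¹ = n * (n⁻¹ * q * n⁻¹⁻¹ * b.u * (n⁻¹ * q * n⁻¹⁻¹)⁻¹) * n⁻¹ := by group
    refine (b.u_conj _ (hQ.le ((conj_mem_norm (inv_mem hn)).2 hq))).imp (fun h => by rw [e, h]) fun h => ?_
    rw [e, h, conj_mul', conj_eq_of_comm hz]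
  · have := hx.conj_of_mem (n := n⁻¹) (Commute.inv_left hz)
      (hQ.le ((conj_mem_norm (inv_mem hn)).2 (hx.memQ hQ)))
    simpa [mul_assoc] using this

theorem cu_of_con (hQ : Con b.z b.S Q) : b.CU := fun v w hv hw =>
  ((hw.mem hQ).2.1 v (hv.memQ hQ)).imp comm_of_conj_eq fun h => by
    rw [mul_inv_eq_iff_eq_mul.1 h, mul_assoc, mul_assoc, b.z_comm v hv.1]

theorem alpha_or_beta (hQ : Con b.z b.S Q) : (∀ w, b.UU w → w ∈ b.U) ∨ ∃ w, b.UU w ∧ w ∉ b.T := by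
  by_contra! h
  obtain ⟨⟨w, hw, hU⟩, h⟩ := h
  refine hU (b.n3 (h w hw) hw.sq fun s hs => ?_)
  obtain ⟨-, -, n, -, e, hn⟩ := hw.mem hQ
  have h1 := (hn (n⁻¹ * (s * w * s⁻¹) * n)).2 (by simpa [mul_assoc] using hw.conj hs)
  have h2 := conj_comm n (b.mem_T.1 (h _ h1)).2
  rw [e] at h2
  simpa [mul_assoc] using h2.symm

theorem le_norm_U {X : Subgroup G} {c : G} (hX : cj c X ≤ b.S) (hc : ∀ v ∈ b.U, c * v * c⁻¹ ∈ b.U) :
    X ≤ normalizer (b.U : Set G) := fun x hx => by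
  have h1 := mem_normalizer_of_conj_mem hc
  simpa [mul_assoc] using mul_mem (mul_mem (inv_mem h1) (b.S_norm_U (cj_le_iff.1 hX x hx))) h1

theorem nv_of_caseZ (hZ : ¬ b.CaseC) (hQ : ∀ v ∈ b.U, v ≠ 1 → ∃ Q, Con v b.S Q) : b.NV := by
  intro v hv v1 X hX hU hc
  have : Fact (Nat.Prime 2) := ⟨Nat.prime_two⟩
  have hT := b.T_eq_of_not hZ
  have hS : ∀ s ∈ b.S, ∀ w ∈ b.U, s * w = w * s := fun s hs w hw => b.TU (hT ▸ hs) hw
  obtain ⟨Q, hQ⟩ := hQ v hv v1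
  obtain ⟨c, hc', h1⟩ := (b.syl.mono (K := centralizer {v}) (fun s hs => mem_cen.2 (hS s hs v hv)) le_top).exists_cj_le
    hX fun x hx => mem_cen.2 (hc x hx)
  refine le_norm_U h1 fun w hw => ?_
  obtain ⟨n, hn, -, e⟩ := hQ.ctrl c (mem_cen.1 hc') w (b.U_le_S hw) (cj_le_iff.1 h1 w (hU hw))
  have h2 : n * w * n⁻¹ ∈ Q := (conj_mem_norm hn).2
    (hQ.mem w (b.U_le_S hw) fun q hq => Or.inl (conj_eq_of_comm (hS q (hQ.le hq) w hw)))
  rw [← e]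
  refine b.n3 (hT ▸ hQ.le h2) (conj_sq (b.U_sq hw)) fun s hs => ?_
  have h3 := conj_comm n (hS _ (hQ.le ((conj_mem_norm (inv_mem hn)).2 ((conj_mem_norm (hQ.norm hs)).2 h2))) w hw)
  simpa [mul_assoc] using h3.symm

theorem nv_of_alpha (hC : b.CaseC) (hα : ∀ w, b.UU w → w ∈ b.U) (h : IsConj b.u b.z ∨ ¬ IsConj b.u b.z ∧ b.IsoU) :
    b.NV := by
  have : Fact (Nat.Prime 2) := ⟨Nat.prime_two⟩
  let P : G → Prop := fun v => ∀ X : Subgroup G, IsPGroup 2 X → b.U ≤ X → (∀ x ∈ X, x * v = v * x) →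
    X ≤ normalizer (b.U : Set G)
  have tr : ∀ v n, n ∈ normalizer (b.U : Set G) → P (n * v * n⁻¹) → P v := fun v n hn hP X hX hU hc x hx => by
    have h1 := hP (cj n X) (isPGroup_cj hX n) (cj_eq_iff.2 hn ▸ cj_mono hU) (fun y hy => by
      simpa [mul_assoc] using conj_comm n (hc _ (mem_cj.1 hy))) (conj_mem_cj.2 hx)
    simpa [mul_assoc] using mul_mem (mul_mem (inv_mem hn) h1) hn
  have gen : ∀ {c : G}, c * b.z * c⁻¹ ∈ b.U → c * b.u * c⁻¹ ∈ b.U → ∀ v ∈ b.U, c * v * c⁻¹ ∈ b.U := by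
    intro c h1 h2 v hv
    rcases b.mem_U.1 hv with rfl | rfl | rfl | rfl
    exacts [by simp, h1, h2, by rw [conj_mul']; exact mul_mem h2 h1]
  have pz : P b.z := fun X hX hU hc => by
    obtain ⟨c, hc', h1⟩ := b.sylCz.exists_cj_le hX fun x hx => ⟨mem_top _, mem_cen.2 (hc x hx)⟩
    exact le_norm_U h1 (gen (by rw [mem_cen'.1 hc'.2]; exact b.zU)
      (hα _ ⟨cj_le_iff.1 h1 _ (hU b.uU), c, mem_cen.1 hc'.2, rfl⟩))
  have pu : P b.u := by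
    rcases h with h | ⟨h1, h2⟩
    · obtain ⟨n, -, hn, e⟩ := (hC.fused h).exists_norm b.uU b.zU b.u_ne b.z_ne
      exact tr _ n hn (e ▸ pz)
    · intro X hX hU hc
      obtain ⟨c, hc', h3⟩ := (hC.sylCu h1).exists_cj_le hX fun x hx => ⟨mem_top _, mem_cen.2 (hc x hx)⟩
      exact le_norm_U (h3.trans b.T_le) (gen (by
        rw [h2 c (mem_cen.1 hc'.2) (cj_le_iff.1 h3 _ (hU b.zU))]; exact b.zU)
        (by rw [mem_cen'.1 hc'.2]; exact b.uU))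
  intro v hv v1
  rcases b.mem_U.1 hv with rfl | rfl | rfl | rfl
  · exact absurd rfl v1
  · exact pz
  · exact pu
  · obtain ⟨s, hs, hT⟩ := hC
    exact tr _ s (b.S_norm_U hs) ((b.conj_uz hs hT).symm ▸ pu)

end Cfsg.Agent.NE.B8
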