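import Mathlib
import Cfsg.Agent.NE.L34
import Cfsg.Agent.NE.Alpha

/-! Case (β) with `u` conjugate to `z`. -/

set_option autoImplicit false
set_option linter.unusedSectionVars false

namespace Cfsg.Agent.NE.B8

open Cfsg.Agent.Inv.Fz Cfsg.Agent.Rec Subgroup

variable {G : Type*} [Group G] [Finite G] {b : B8 G}

/-- The data of case (β). -/
structure Bt (b : B8 G) (Q : Subgroup G) (w ρ : G) : Prop where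
  con : Con b.z b.S Q
  uu : b.UU w
  nT : w ∉ b.T
  rho : b.Rho ρ
  inv : w * ρ * w⁻¹ = ρ⁻¹

/-- `g` acts trivially on `y` modulo `z`. -/
def Tz (b : B8 G) (g y : G) : Prop := g * y * g⁻¹ = y ∨ g * y * g⁻¹ = y * b.z

theorem Tz.mul {g k y : G} (hg : g ∈ b.S) (h1 : b.Tz g y) (h2 : b.Tz k y) : b.Tz (g * k) y := by
  unfold Tz at *
  rw [← conj_conj]
  rcases h2 with e | e <;> rw [e]
  · exact h1
  · rw [conj_mul', b.conj_z hg]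
    exact h1.symm.imp (fun e => by rw [e, b.zz]) fun e => by rw [e]

theorem Tz.symm {g y : G} (hg : g ∈ b.S) (hy : y ∈ b.S) (h : b.Tz g y) : b.Tz y g := by
  refine h.imp (fun e => conj_eq_of_comm (comm_of_conj_eq e).symm) fun e => ?_
  calc y * g * y⁻¹ = y * b.z * b.z * g * y⁻¹ := by rw [b.zz]
    _ = g * (y * (g⁻¹ * b.z * g⁻¹⁻¹) * y⁻¹) := by rw [← e]; group
    _ = _ := by rw [b.conj_z (inv_mem hg), b.conj_z hy]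

theorem tz_of_comm {g y : G} (hy : y ∈ b.S) (h : g * y * g⁻¹ * y⁻¹ = 1 ∨ g * y * g⁻¹ * y⁻¹ = b.z) : b.Tz g y :=
  h.imp mul_inv_eq_one.1 fun e => by rw [mul_inv_eq_iff_eq_mul.1 e, b.z_comm y hy]

theorem Tz.comm {g y : G} (hy : y ∈ b.S) (h : b.Tz g y) : g * y * g⁻¹ * y⁻¹ = 1 ∨ g * y * g⁻¹ * y⁻¹ = b.z :=
  h.imp mul_inv_eq_one.2 fun e => by rw [e, b.conj_z hy]

theorem zU' {v : G} (h : v = 1 ∨ v = b.z) : v ∈ b.U := by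
  rcases h with rfl | rfl
  exacts [one_mem _, b.zU]

section bilin

variable {x y t : G}

theorem cmL (hx : x ∈ b.T) (h : y * t * y⁻¹ * t⁻¹ ∈ b.U) :
    x * y * t * (x * y)⁻¹ * t⁻¹ = y * t * y⁻¹ * t⁻¹ * (x * t * x⁻¹ * t⁻¹) := by
  calc _ = x * (y * t * y⁻¹ * t⁻¹) * (t * x⁻¹ * t⁻¹) := by group
    _ = _ := by rw [b.TU hx h]; group

theorem cmR (hx : x ∈ b.T) (h : t * y * t⁻¹ * y⁻¹ ∈ b.U) :
    t * (x * y) * t⁻¹ * (x * y)⁻¹ = t * x * t⁻¹ * x⁻¹ * (t * y * t⁻¹ * y⁻¹) := by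
  calc _ = t * x * t⁻¹ * x⁻¹ * (x * (t * y * t⁻¹ * y⁻¹)) * x⁻¹ := by group
    _ = _ := by rw [b.TU hx h]; group

theorem cmS (h : x * y * x⁻¹ * y⁻¹ ∈ b.U) : y * x * y⁻¹ * x⁻¹ = x * y * x⁻¹ * y⁻¹ := by
  rw [← inv_of_sq (b.U_sq h)]; group

theorem sqM (hx : x ∈ b.T) (h : y * x * y⁻¹ * x⁻¹ ∈ b.U) :
    x * y * (x * y) = y * x * y⁻¹ * x⁻¹ * (x * x * (y * y)) := by
  calc _ = x * (y * x * y⁻¹ * x⁻¹) * (x * (y * y)) := by group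
    _ = _ := by rw [b.TU hx h]; group

end bilin

namespace Bt

variable {Q : Subgroup G} {w ρ : G} (h : b.Bt Q w ρ)
include h

theorem wS : w ∈ b.S := h.uu.1

theorem tzU {v : G} (hv : b.UU v) {q : G} (hq : q ∈ Q) : b.Tz v q :=
  Tz.symm (h.con.le hq) hv.1 ((hv.mem h.con).2.1 q hq)

theorem U_le : b.U ≤ Q ⊓ b.T := le_inf (b.U_le_iff.2
  ⟨h.con.mem _ b.z_mem fun _ hq => Or.inl (b.conj_z (h.con.le hq)),
    h.con.mem _ b.u_mem fun q hq => b.u_conj q (h.con.le hq)⟩) b.U_le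

theorem conj1 {s q : G} (hs : s ∈ b.S) (hq : q ∈ Q ⊓ b.T) : s * q * s⁻¹ ∈ Q ⊓ b.T :=
  ⟨(conj_mem_norm (h.con.norm hs)).2 hq.1, b.conj_T hs hq.2⟩

theorem σT {y : G} (hy : y ∈ b.T) : ρ * y * ρ⁻¹ ∈ b.T := (conj_mem_norm h.rho.norm).2 hy

theorem σU {y : G} : ρ * y * ρ⁻¹ ∈ b.U ↔ y ∈ b.U := conj_mem_norm h.rho.normU

theorem σ3 {y : G} (hy : y ∈ b.T) : ρ⁻¹ * y * ρ = ρ * (ρ * y * ρ⁻¹) * ρ⁻¹ := by
  conv_lhs => rw [← h.rho.cube y hy]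
  group

theorem le2 : cj ρ (Q ⊓ b.T) ≤ b.T := cj_le_iff.2 fun _ hx => h.σT hx.2

theorem U_le2 : b.U ≤ cj ρ (Q ⊓ b.T) := by
  rw [← cj_eq_iff.2 h.rho.normU]; exact cj_mono h.U_le

theorem conj2 {s q : G} (hs : s ∈ b.T) (hq : q ∈ cj ρ (Q ⊓ b.T)) : s * q * s⁻¹ ∈ cj ρ (Q ⊓ b.T) := by
  have := h.conj1 ((conj_mem_norm (inv_mem h.rho.norm)).2 hs).1 (mem_cj.1 hq)
  rw [mem_cj]
  convert this using 1; group

theorem wρ (y : G) : w * (ρ * y * ρ⁻¹) * w⁻¹ = ρ⁻¹ * (w * y * w⁻¹) * ρ := by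
  calc _ = w * ρ * w⁻¹ * (w * y * w⁻¹) * (w * ρ * w⁻¹)⁻¹ := by group
    _ = _ := by rw [h.inv, inv_inv]

theorem inf12 {x : G} (h1 : x ∈ Q ⊓ b.T) (h2 : x ∈ cj ρ (Q ⊓ b.T)) : x ∈ b.U := by
  by_contra hx
  have hw : ∀ y ∈ Q ⊓ b.T, ∃ v ∈ b.U, w * y * w⁻¹ = y * v := fun y hy =>
    (h.tzU h.uu hy.1).elim (fun e => ⟨1, one_mem _, by rw [e, mul_one]⟩) fun e => ⟨_, b.zU, e⟩
  obtain ⟨κ, hκ, k⟩ := CaseC.exists_kap ⟨w, h.wS, h.nT⟩ (N := Q ⊓ b.T ⊓ cj ρ (Q ⊓ b.T))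
    (inf_le_left.trans inf_le_right) (fun s hs => mem_normalizer_of_conj_mem fun y hy => ⟨h.conj1 hs hy.1, by
      by_cases hT : s ∈ b.T
      · exact h.conj2 hT hy.2
      · obtain ⟨v, hv, e⟩ := hw y hy.1
        have := h.conj2 (b.mul_mem_T hs (inv_mem h.wS) hT fun e => h.nT (inv_mem_iff.1 e))
          (mul_mem hy.2 (h.U_le2 hv))
        rw [← e] at this
        simpa [mul_assoc] using this⟩) fun e => hx (e ⟨h1, h2⟩)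
  have hy := mem_cj.1 hκ.2
  obtain ⟨v, hv, e⟩ := hw _ hy
  have e1 : ρ⁻¹ * κ * ρ * (ρ⁻¹ * κ * ρ) = b.u * b.z := by
    rw [← conj_inj (g := ρ), h.rho.cuz, ← k.sq]; group
  have e2 := b.conj_uz h.wS h.nT
  rw [← e1, conj_mul', e, mul_assoc, ← comm_assoc (b.TU hy.2 hv), b.U_sq hv, mul_one, e1] at e2
  exact b.uz_ne_u e2

/-- `Q₂ ∩ Q₃ = U`. -/
theorem inf23 {p : G} (h1 : p ∈ cj ρ (Q ⊓ b.T)) (h2 : w * p * w⁻¹ ∈ cj ρ (Q ⊓ b.T)) : p ∈ b.U := by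
  obtain ⟨q, hq, rfl⟩ : ∃ q ∈ Q ⊓ b.T, p = ρ * q * ρ⁻¹ := ⟨_, mem_cj.1 h1, by group⟩
  rw [h.σU, ← b.conj_U_iff h.wS, ← h.σU]
  have h3 := h.conj1 h.wS hq
  refine h.inf12 ?_ (conj_mem_cj.2 h3)
  rw [h.wρ, mem_cj, h.σ3 h3.2] at h2
  simpa [mul_assoc] using h2

theorem comm12 {q p : G} (hq : q ∈ Q ⊓ b.T) (hp : p ∈ cj ρ (Q ⊓ b.T)) : p * q * p⁻¹ * q⁻¹ ∈ b.U :=
  h.inf12 (mul_mem (h.conj1 (h.le2 hp).1 hq) (inv_mem hq))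
    (by simpa [mul_assoc] using mul_mem hp (h.conj2 hq.2 (inv_mem hp)))

theorem cw (τ : G) : w * τ * w⁻¹ * τ⁻¹ = w * (τ * w * τ⁻¹) := by
  rw [inv_of_sq h.uu.sq]; group

theorem cw_mem {τ : G} (hτ : τ ∈ b.S) : w * τ * w⁻¹ * τ⁻¹ ∈ Q ⊓ b.T :=
  ⟨h.cw τ ▸ mul_mem (h.uu.memQ h.con) ((h.uu.conj hτ).memQ h.con), b.comm_mem_T h.wS hτ⟩

theorem cw_tz {τ : G} (hτ : τ ∈ b.S) (hU : w * τ * w⁻¹ * τ⁻¹ ∈ b.U) : b.Tz w τ := by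
  refine tz_of_comm hτ (b.U_fix h.wS h.nT hU ?_)
  rw [h.cw τ] at hU ⊢
  rw [(inverts_mul h.uu.sq (h.uu.conj hτ).sq).1, inv_of_sq (b.U_sq hU)]

theorem cw_inj {p p' : G} (hp : p ∈ cj ρ (Q ⊓ b.T)) (hp' : p' ∈ cj ρ (Q ⊓ b.T))
    (e : (w * p * w⁻¹ * p⁻¹)⁻¹ * (w * p' * w⁻¹ * p'⁻¹) ∈ b.U) : p⁻¹ * p' ∈ b.U := by
  refine h.inf23 (mul_mem (inv_mem hp) hp') ?_
  simpa [mul_assoc] using mul_mem (mul_mem (inv_mem hp) (h.U_le2 e)) hp'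

theorem cw_surj {q : G} (hq : q ∈ Q ⊓ b.T) :
    ∃ p ∈ cj ρ (Q ⊓ b.T), (w * p * w⁻¹ * p⁻¹)⁻¹ * q ∈ b.U := by
  let f : (Q ⊓ b.T : Subgroup G) ⧸ b.U.subgroupOf (Q ⊓ b.T) → (Q ⊓ b.T : Subgroup G) ⧸ b.U.subgroupOf (Q ⊓ b.T) :=
    fun c => QuotientGroup.mk ⟨_, h.cw_mem (h.σT c.out.2.2).1⟩
  have hf : Function.Injective f := fun c c' e => by
    have h1 := h.cw_inj (conj_mem_cj.2 c.out.2) (conj_mem_cj.2 c'.out.2)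
      (mem_subgroupOf.1 ((QuotientGroup.eq (s := b.U.subgroupOf (Q ⊓ b.T))).1 e))
    rw [← c.out_eq, ← c'.out_eq]
    exact (QuotientGroup.eq (s := b.U.subgroupOf (Q ⊓ b.T))).2
      (mem_subgroupOf.2 (h.σU.1 (by simpa [mul_assoc] using h1)))
  obtain ⟨c, hc⟩ := Finite.injective_iff_surjective.1 hf (QuotientGroup.mk ⟨q, hq⟩)
  exact ⟨_, conj_mem_cj.2 c.out.2, mem_subgroupOf.1 ((QuotientGroup.eq (s := b.U.subgroupOf (Q ⊓ b.T))).1 hc)⟩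

theorem tz1 {q q' : G} (hq : q ∈ Q ⊓ b.T) (hq' : q' ∈ Q) : b.Tz q q' := by
  obtain ⟨p, hp, e⟩ := h.cw_surj hq
  have hp' := (h.le2 hp).1
  have h1 : ∀ v ∈ b.U, b.Tz v q' := fun v hv => by
    refine Tz.symm (h.con.le hq') (b.U_le_S hv) ?_
    rcases b.U_cases hv with (rfl | rfl) | h2
    · exact Or.inl (by simp)
    · exact Or.inl (b.conj_z (h.con.le hq'))
    · by_cases hT : q' ∈ b.T
      exacts [Or.inl (conj_eq_of_comm (b.TU hT hv)), Or.inr (b.conj_out (h.con.le hq') hT h2)]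
  have := Tz.mul (mul_mem h.wS (h.uu.conj hp').1) (Tz.mul h.wS (h.tzU h.uu hq') (h.tzU (h.uu.conj hp') hq')) (h1 _ e)
  rwa [← h.cw p, mul_inv_cancel_left] at this

theorem sq1 {q : G} (hq : q ∈ Q ⊓ b.T) : q * q = 1 ∨ q * q = b.z := by
  obtain ⟨p, hp, e⟩ := h.cw_surj hq
  have hp' := (h.le2 hp).1
  have h1 := h.cw_mem hp'
  have h2 := (h.tzU h.uu ((h.uu.conj hp').memQ h.con)).comm (h.uu.conj hp').1
  rw [inv_of_sq h.uu.sq, inv_of_sq (h.uu.conj hp').sq, mul_assoc, ← h.cw p] at h2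
  generalize w * p * w⁻¹ * p⁻¹ = c at e h1 h2
  obtain ⟨v, rfl⟩ : ∃ v, q = c * v := ⟨c⁻¹ * q, by group⟩
  rw [inv_mul_cancel_left] at e
  rwa [mul_assoc, ← comm_assoc (b.TU h1.2 e), b.U_sq e, mul_one]

theorem sq2 {p : G} (hp : p ∈ cj ρ (Q ⊓ b.T)) : p * p ∈ b.U := by
  simpa [mul_assoc] using h.σU.2 (zU' (h.sq1 (mem_cj.1 hp)))

theorem leR : Q ⊓ b.T ⊔ cj ρ (Q ⊓ b.T) ≤ b.T := sup_le inf_le_right h.le2

theorem memR {g : G} : g ∈ Q ⊓ b.T ⊔ cj ρ (Q ⊓ b.T) ↔ ∃ q ∈ Q ⊓ b.T, ∃ p ∈ cj ρ (Q ⊓ b.T), g = q * p :=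
  mem_sup_iff_of_le_normalizer fun _ hq => mem_normalizer_of_conj_mem fun _ => h.conj2 (mem_inf.1 hq).2

theorem sqR {g : G} (hg : g ∈ Q ⊓ b.T ⊔ cj ρ (Q ⊓ b.T)) : g * g ∈ b.U := by
  obtain ⟨q, hq, p, hp, rfl⟩ := h.memR.1 hg
  rw [sqM hq.2 (h.comm12 hq hp)]
  exact mul_mem (h.comm12 hq hp) (mul_mem (zU' (h.sq1 hq)) (h.sq2 hp))

theorem wR {g : G} (hg : g ∈ Q ⊓ b.T ⊔ cj ρ (Q ⊓ b.T)) : w * g * w⁻¹ ∈ Q ⊓ b.T ⊔ cj ρ (Q ⊓ b.T) := by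
  simpa using mul_mem (mem_sup_left (h.cw_mem (h.leR hg).1)) hg

theorem fpf : Fpf (Q ⊓ b.T ⊔ cj ρ (Q ⊓ b.T)) ρ := by
  have A : ∀ y ∈ Q ⊓ b.T ⊔ cj ρ (Q ⊓ b.T), ρ * y * ρ⁻¹ = y → w * y * w⁻¹ = y → y ∈ b.U := fun y hy e1 e2 => by
    obtain ⟨q, hq, p, hp, rfl⟩ := h.memR.1 hy
    have h1 : p ∈ b.U := h.inf23 hp (by
      rw [conj_mul'] at e2
      rcases h.tzU h.uu hq.1 with e | e <;> rw [e] at e2
      · rwa [mul_left_cancel e2]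
      · rw [mul_assoc] at e2
        exact (mul_mem_cancel_left (h.U_le2 b.zU)).1 (by rw [mul_left_cancel e2]; exact hp))
    have h2 := mul_mem hq (h.U_le h1)
    exact h.inf12 h2 (e1 ▸ conj_mem_cj.2 h2)
  refine h.rho.fpf h.leR (mem_normalizer_of_conj_mem fun y hy => ?_) fun y hy y2 e => ?_
  · obtain ⟨q, hq, p, hp, rfl⟩ := h.memR.1 hy
    rw [conj_mul']
    refine mul_mem (mem_sup_right (conj_mem_cj.2 hq)) ?_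
    have h1 := h.wR (mem_sup_right (conj_mem_cj.2 (h.conj1 (inv_mem h.wS) (mem_cj.1 hp))))
    rw [h.wρ, show w * (w⁻¹ * (ρ⁻¹ * p * ρ) * w⁻¹⁻¹) * w⁻¹ = ρ⁻¹ * p * ρ by group, h.σ3 (mem_cj.1 hp).2] at h1
    simpa [mul_assoc] using h1
  · have e1 := conj_eq_of_comm e
    have e2 : ρ * (w * y * w⁻¹) * ρ⁻¹ = w * y * w⁻¹ := by
      have := h.wρ y
      rw [e1] at this
      conv_lhs => rw [this]
      group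
    have e3 : ρ * (y * (w * y * w⁻¹)) * ρ⁻¹ = y * (w * y * w⁻¹) := by rw [conj_mul', e1, e2]
    have h1 := mul_mem hy (h.wR hy)
    have h2 := h.rho.fixU (h.sqR h1) (by rw [conj_mul', e3])
    have h3 := h.rho.fixU (A _ h1 e3 (by
      rw [conj_mul', conj_conj w w, h.uu.sq, one_mul, inv_one, mul_one, ← inv_of_sq h2, mul_inv_rev,
        inv_of_sq y2, inv_of_sq (conj_sq y2)])) e3
    exact A y hy e1 (by rw [← inv_eq_of_mul_eq_one_right h3, inv_of_sq y2])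

theorem fin {x y : G} (hx : x ∈ Q ⊓ b.T ⊔ cj ρ (Q ⊓ b.T)) (hy : y ∈ Q ⊓ b.T ⊔ cj ρ (Q ⊓ b.T)) (x2 : x * x = 1)
    (y2 : y * y = 1) (hxy : x * y ≠ y * x) : ∃ A B, b.L34 A B :=
  ⟨_, _, h.rho.l34 h.leR h.fpf hx hy x2 y2 hxy (by simpa [mul_assoc] using h.sqR (mul_mem hx hy))
    (by simpa [mul_assoc] using h.sqR (mul_mem hx ((conj_mem_norm h.fpf.norm).2 hy)))⟩

theorem memQ {y : G} (hy : y ∈ b.T) (h1 : w * y * w⁻¹ * y⁻¹ ∈ b.U) (h2 : ∀ q ∈ Q ⊓ b.T, b.Tz q y) :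
    y ∈ Q ⊓ b.T := by
  refine mem_inf.2 ⟨h.con.mem y hy.1 fun q hq => ?_, hy⟩
  by_cases hT : q ∈ b.T
  · exact h2 q (mem_inf.2 ⟨hq, hT⟩)
  · have := Tz.mul h.wS (h.cw_tz hy.1 h1) (h2 (w⁻¹ * q) (mem_inf.2 ⟨mul_mem (inv_mem (h.uu.memQ h.con)) hq,
      b.mul_mem_T (inv_mem h.wS) (h.con.le hq) (fun e => h.nT (inv_mem_iff.1 e)) hT⟩))
    rwa [mul_inv_cancel_left] at this

theorem nonab {p p' : G} (hp : p ∈ Q ⊓ b.T) (hp' : p' ∈ Q ⊓ b.T) (hc : p * p' ≠ p' * p) : ∃ A B, b.L34 A B := by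
  have c : p * p' * p⁻¹ * p'⁻¹ = b.z := ((h.tz1 hp hp'.1).comm hp'.2.1).resolve_left fun e =>
    hc (comm_of_conj_eq (mul_inv_eq_one.1 e))
  have c' : p' * p * p'⁻¹ * p⁻¹ = b.z := (cmS (c ▸ b.zU)).trans c
  have s := sqM hp.2 (c' ▸ b.zU)
  rw [c'] at s
  rcases h.sq1 hp with e | e <;> rcases h.sq1 hp' with e' | e'
  · exact h.fin (mem_sup_left hp) (mem_sup_left hp') e e' hc
  · refine h.fin (mem_sup_left hp) (mem_sup_left (mul_mem hp hp')) e (by rw [s, e, e', one_mul, b.z_sq]) ?_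
    rw [mul_assoc]
    exact fun k => hc (mul_left_cancel k)
  · refine h.fin (mem_sup_left (mul_mem hp hp')) (mem_sup_left hp') (by rw [s, e, e', mul_one, b.z_sq]) e' ?_
    rw [← mul_assoc]
    exact fun k => hc (mul_right_cancel k)
  have f : ∀ q ∈ Q ⊓ b.T, ρ * q * ρ⁻¹ * q * (ρ * q * ρ⁻¹)⁻¹ * q⁻¹ = 1 := fun q hq => by
    rw [← h.fpf.comm (mem_sup_left hq)]; group
  have m : ∀ q ∈ Q ⊓ b.T, ∀ q' ∈ Q ⊓ b.T, ρ * q * ρ⁻¹ * q' * (ρ * q * ρ⁻¹)⁻¹ * q'⁻¹ ∈ b.U := fun q hq q' hq' =>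
    h.comm12 hq' (conj_mem_cj.2 hq)
  have l1 := f _ (mul_mem hp hp')
  rw [conj_mul' ρ p p', cmL (h.σT hp.2) (m _ hp' _ (mul_mem hp hp')), cmR hp.2 (m _ hp' _ hp'),
    cmR hp.2 (m _ hp _ hp'), f p hp, f p' hp', mul_one, one_mul] at l1
  have sc : ρ * p * ρ⁻¹ * (ρ * p' * ρ⁻¹) * (ρ * p * ρ⁻¹)⁻¹ * (ρ * p' * ρ⁻¹)⁻¹ = b.u := by
    rw [← h.rho.cz, ← c]; group
  have sc' : ρ * p' * ρ⁻¹ * (ρ * p * ρ⁻¹) * (ρ * p' * ρ⁻¹)⁻¹ * (ρ * p * ρ⁻¹)⁻¹ = b.u := (cmS (sc ▸ b.uU)).trans sc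
  have k1 := m _ hp' _ hp
  have k2 := m _ hp _ hp'
  have l2 : ρ * p * ρ⁻¹ * p' * (ρ * p * ρ⁻¹)⁻¹ * p'⁻¹ = ρ * p' * ρ⁻¹ * p * (ρ * p' * ρ⁻¹)⁻¹ * p⁻¹ := by
    rw [← inv_eq_of_mul_eq_one_right l1, inv_of_sq (b.U_sq k1)]
  have l3 : ρ * p' * ρ⁻¹ * p * (ρ * p' * ρ⁻¹)⁻¹ * p⁻¹ = b.u * b.z := by
    have t1 := h.fpf.mul3 (mem_sup_left hp')
    have t2 : ρ * p * ρ⁻¹ * (p' * (ρ * p' * ρ⁻¹)) * (ρ * p * ρ⁻¹)⁻¹ * (p' * (ρ * p' * ρ⁻¹))⁻¹ =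
        ρ * p' * ρ⁻¹ * p * (ρ * p' * ρ⁻¹)⁻¹ * p⁻¹ * b.u := by
      rw [cmR hp'.2 (sc ▸ b.uU), sc, l2]
    have t3 : ρ * (ρ * p' * ρ⁻¹ * p * (ρ * p' * ρ⁻¹)⁻¹ * p⁻¹) * ρ⁻¹ =
        ρ * p' * ρ⁻¹ * p * (ρ * p' * ρ⁻¹)⁻¹ * p⁻¹ * b.u := by
      have t4 := b.TU (mul_mem hp'.2 (h.σT hp'.2)) (mul_mem k1 b.uU)
      rw [← t2] at t4 ⊢
      generalize p' * (ρ * p' * ρ⁻¹) = d at t1 t4 ⊢
      calc _ = ρ * (ρ * p' * ρ⁻¹) * ρ⁻¹ * (ρ * p * ρ⁻¹) * (ρ * (ρ * p' * ρ⁻¹) * ρ⁻¹)⁻¹ * (ρ * p * ρ⁻¹)⁻¹ := by group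
        _ = d⁻¹ * (ρ * p * ρ⁻¹ * d * (ρ * p * ρ⁻¹)⁻¹ * d⁻¹ * d) := by
          rw [← inv_eq_of_mul_eq_one_right t1]; group
        _ = _ := by rw [← t4]; group
    generalize ρ * p' * ρ⁻¹ * p * (ρ * p' * ρ⁻¹)⁻¹ * p⁻¹ = l at k1 t3
    rcases b.mem_U.1 k1 with rfl | rfl | rfl | rfl
    · exact absurd (by simpa using t3.symm) b.u_ne
    · exact absurd (mul_eq_right.1 (t3.symm.trans h.rho.cz)) b.z_ne
    · exact absurd (h.rho.cu.symm.trans (t3.trans b.u_sq)) b.uz_ne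
    · rfl
  have su : ∀ q, q * q = b.z → ρ * q * ρ⁻¹ * (ρ * q * ρ⁻¹) = b.u := fun q e => by rw [← conj_mul', e, h.rho.cz]
  have fin : b.u * b.z * (b.z * b.u) = 1 := by rw [← b.uz, b.uz_sq]
  refine h.fin (mul_mem (mem_sup_left hp) (mem_sup_right (conj_mem_cj.2 hp')))
    (mul_mem (mem_sup_left hp') (mem_sup_right (conj_mem_cj.2 hp)))
    (by rw [sqM hp.2 k1, l3, e, su _ e', fin]) (by rw [sqM hp'.2 k2, l2, l3, e', su _ e, fin]) fun k => ?_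
  have t := mul_inv_eq_one.2 (conj_eq_of_comm k)
  have t1 : ρ * p' * ρ⁻¹ * (p' * (ρ * p * ρ⁻¹)) * (ρ * p' * ρ⁻¹)⁻¹ * (p' * (ρ * p * ρ⁻¹))⁻¹ = b.u := by
    rw [cmR hp'.2 (sc' ▸ b.uU), f p' hp', sc', one_mul]
  have t2 : p * (ρ * p * ρ⁻¹) * p⁻¹ * (ρ * p * ρ⁻¹)⁻¹ = 1 := by
    rw [h.fpf.comm (mem_sup_left hp)]; group
  rw [cmL hp.2 (t1 ▸ b.uU), t1, cmR hp'.2 (t2 ▸ one_mem _), t2, c, mul_one] at t
  exact b.uz_ne t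

theorem ab (hc : ∀ p ∈ Q ⊓ b.T, ∀ p' ∈ Q ⊓ b.T, p * p' = p' * p) : False := by
  have root : ∀ p ∈ Q ⊓ b.T, p ∉ b.U → p * p = b.z := fun p hp hU => (h.sq1 hp).resolve_left fun e =>
    hU (b.n3 hp.2 e fun s hs => hc p hp _ (h.conj1 hs hp))
  have two : ∀ p ∈ Q ⊓ b.T, ∀ p' ∈ Q ⊓ b.T, p ∉ b.U → p' ∉ b.U → p * p' ∈ b.U := fun p hp p' hp' h1 h2 => by
    by_contra h3
    have := root _ (mul_mem hp hp') h3
    rw [mul_assoc, comm_assoc (hc p' hp' p hp), ← mul_assoc, root p hp h1, root p' hp' h2, b.z_sq] at this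
    exact b.z_ne this.symm
  have cmU : ∀ q ∈ Q ⊓ b.T, ∀ y ∈ b.T, q * y * q⁻¹ * y⁻¹ ∈ b.U := fun q hq y hy => by
    by_cases hU : q ∈ b.U
    · rw [← b.TU hy hU]; simp
    · have := two q hq _ (h.conj1 hy.1 (inv_mem hq)) hU (by rwa [b.conj_U_iff hy.1, inv_mem_iff])
      simpa [mul_assoc] using this
  have key : ∀ y ∈ b.T, w * y * w⁻¹ * y⁻¹ ∈ b.U → y ∈ Q ⊓ b.T := fun y hy h1 => h.memQ hy h1 fun q hq => by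
    refine tz_of_comm hy.1 (b.U_fix h.wS h.nT (cmU q hq y hy) ?_)
    have e : w * (q * y * q⁻¹ * y⁻¹) * w⁻¹ =
        w * q * w⁻¹ * (w * y * w⁻¹) * (w * q * w⁻¹)⁻¹ * (w * y * w⁻¹)⁻¹ := by group
    have z1 : ∀ y ∈ b.T, b.z * y * b.z⁻¹ * y⁻¹ = 1 := fun y hy => by rw [← b.z_comm y hy.1]; group
    have z2 : q * b.z * q⁻¹ * b.z⁻¹ = 1 := by rw [b.z_comm q hq.2.1]; group
    have e1 : ∀ y ∈ b.T, w * q * w⁻¹ * y * (w * q * w⁻¹)⁻¹ * y⁻¹ = q * y * q⁻¹ * y⁻¹ := fun y hy => by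
      rcases h.tzU h.uu hq.1 with e | e <;> rw [e]
      rw [cmL hq.2 (z1 y hy ▸ one_mem _), z1 y hy, one_mul]
    rw [e, e1 _ (b.conj_T h.wS hy)]
    rcases h.cw_tz hy.1 h1 with e | e <;> rw [e]
    rw [cmR hy (z2 ▸ one_mem _), z2, mul_one]
  obtain ⟨x, hx, x2, hU⟩ := b.rank
  by_cases h1 : w * x * w⁻¹ * x⁻¹ ∈ b.U
  · exact b.z_ne ((root x (key x hx h1) hU).symm.trans x2)
  have hp := h.cw_mem hx.1
  generalize hd : w * x * w⁻¹ * x⁻¹ = p at h1 hp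
  have h2 := h.σT hp.2
  have h3 : w * (ρ * p * ρ⁻¹) * w⁻¹ * (ρ * p * ρ⁻¹)⁻¹ ∉ b.U := fun e =>
    h1 (h.σU.1 (by simpa using h.cw_inj (one_mem _) (conj_mem_cj.2 hp) (by simpa using e)))
  have h4 := key _ (mul_mem hx h2) (by
    have := two p hp _ (h.conj1 hx.1 (h.cw_mem h2.1)) h1 (by rwa [b.conj_U_iff hx.1])
    rw [← hd] at this ⊢
    convert this using 1
    group)
  have h5 : x * (ρ * p * ρ⁻¹) * (ρ * p * ρ⁻¹) = ρ * p * ρ⁻¹ * (x * (ρ * p * ρ⁻¹)) := by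
    generalize x * (ρ * p * ρ⁻¹) = q at h4
    by_cases hq : q ∈ b.U
    · exact (b.TU h2 hq).symm
    · have h6 := two p hp q h4 h1 hq
      have h7 := h.fpf.comm (mem_sup_left hp)
      calc q * (ρ * p * ρ⁻¹) = p⁻¹ * (p * q * (ρ * p * ρ⁻¹)) := by group
        _ = p⁻¹ * (ρ * p * ρ⁻¹ * p) * q := by rw [← b.TU h2 h6]; group
        _ = _ := by rw [← h7]; group
  have h6 : x * (ρ * p * ρ⁻¹) * (x * (ρ * p * ρ⁻¹)) = b.u := by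
    rw [← mul_assoc, mul_right_cancel (h5.trans (mul_assoc ..).symm), mul_assoc, mul_assoc, sq_cancel x2,
      ← conj_mul', root p hp h1, h.rho.cz]
  rcases h.sq1 h4 with e | e
  exacts [b.u_ne (h6.symm.trans e), b.u_ne_z (h6.symm.trans e)]

end Bt

theorem beta_fused (hu : IsConj b.u b.z) {Q : Subgroup G} (hQ : Con b.z b.S Q) {w : G} (hw : b.UU w) (hT : w ∉ b.T) :
    ∃ A B, b.L34 A B := by
  obtain ⟨ρ, h1, h2⟩ := (CaseC.fused ⟨w, hw.1, hT⟩ hu).exists_rho_inv hw.1 hT hw.sq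
  have h : b.Bt Q w ρ := ⟨hQ, hw, hT, h1, h2⟩
  by_contra hn
  exact h.ab fun p hp p' hp' => by_contra fun e => hn (h.nonab hp hp' e)

end Cfsg.Agent.NE.B8
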