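import Mathlib
import Cfsg.Agent.NE.Defs2

/-! Case (β) with `u` not conjugate to `z`: the group generated by `UU` and configurations `(z^h, u^h)` in `S`. -/

set_option autoImplicit false
set_option linter.unusedSectionVars false

namespace Cfsg.Agent.NE.BN

open Cfsg.Agent.Inv.Fz Cfsg.Agent.Rec Subgroup B8

variable {G : Type*} [Group G] {b : B8 G}

theorem uu_conj {w s : G} (hw : b.UU w) (hs : s ∈ b.S) : b.UU (s * w * s⁻¹) := by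
  obtain ⟨h1, c, h2, rfl⟩ := hw
  refine ⟨mul_mem (mul_mem hs h1) (inv_mem hs), s * c, ?_, (conj_conj ..).symm⟩
  rw [mul_assoc, h2, ← mul_assoc, b.z_comm s hs, mul_assoc]

theorem uu_sq {w : G} (hw : b.UU w) : w * w = 1 := by
  obtain ⟨-, c, -, rfl⟩ := hw
  exact conj_sq b.u_sq

theorem uu_isConj {w : G} (hw : b.UU w) : IsConj w b.u := by
  obtain ⟨-, c, -, rfl⟩ := hw
  exact (isConj_iff.2 ⟨c, rfl⟩).symm

theorem uu_u : b.UU b.u := ⟨b.u_mem, 1, by simp, by simp⟩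

/-- The hypotheses: `t ∈ UU ∖ T`, `P = ⟨UU⟩`, `κ ∈ P`. -/
structure Hyp (b : B8 G) (t κ : G) (P : Subgroup G) : Prop where
  nc : ¬ IsConj b.u b.z
  iso : b.IsoU
  tU : b.UU t
  tT : t ∉ b.T
  le : P ≤ b.S
  norm : b.S ≤ normalizer (P : Set G)
  sub : ∀ w, b.UU w → w ∈ P
  cm : ∀ x ∈ P, ∀ y ∈ P, x * y * x⁻¹ = y ∨ x * y * x⁻¹ = y * b.z
  sq : ∀ x ∈ P, x * x = 1 ∨ x * x = b.z
  card : Nat.card ↥(P ⊓ b.T) ≤ 16
  kP : κ ∈ P
  kap : b.Kap κ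
  mulz : ∀ w, b.UU w → b.UU (w * b.z)
  pull : ∃ n, n * b.z = b.z * n ∧ n * b.u * n⁻¹ = t ∧ ∀ x, b.UU x ↔ b.UU (n * x * n⁻¹)

/-- `(y, w) = (z^h, u^h)` lies in `S` and `y ≠ z`. -/
structure Cf (b : B8 G) (y w : G) : Prop where
  yS : y ∈ b.S
  wS : w ∈ b.S
  ex : ∃ h, h * b.u * h⁻¹ = w ∧ h * b.z * h⁻¹ = y
  ne : y ≠ b.z

/-- No element of `C_S(τ)` has square `z`. -/
def NoRoot (b : B8 G) (τ : G) : Prop := ∀ e ∈ b.S, e * τ = τ * e → e * e ≠ b.z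

theorem Cf.conj_y {y w : G} (c : Cf b y w) : IsConj y b.z := by
  obtain ⟨h, -, rfl⟩ := c.ex
  exact (isConj_iff.2 ⟨h, rfl⟩).symm

theorem Cf.conj_w {y w : G} (c : Cf b y w) : IsConj w b.u := by
  obtain ⟨h, rfl, -⟩ := c.ex
  exact (isConj_iff.2 ⟨h, rfl⟩).symm

theorem Cf.ysq {y w : G} (c : Cf b y w) : y * y = 1 := by
  obtain ⟨h, -, rfl⟩ := c.ex
  exact conj_sq b.z_sq

theorem Cf.wsq {y w : G} (c : Cf b y w) : w * w = 1 := by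
  obtain ⟨h, rfl, -⟩ := c.ex
  exact conj_sq b.u_sq

theorem Cf.comm {y w : G} (c : Cf b y w) : w * y = y * w := by
  obtain ⟨h, rfl, rfl⟩ := c.ex
  exact conj_comm h b.uz

namespace Hyp

variable {t κ : G} {P : Subgroup G} (H : Hyp b t κ P)
include H

theorem tS : t ∈ b.S := H.tU.1
theorem tP : t ∈ P := H.sub t H.tU
theorem tsq : t * t = 1 := uu_sq H.tU
theorem caseC : b.CaseC := ⟨t, H.tS, H.tT⟩
theorem uu_uz : b.UU (b.u * b.z) := H.mulz _ uu_u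
theorem uP : b.u ∈ P := H.sub _ uu_u
theorem zP : b.z ∈ P := (mul_mem_cancel_left H.uP).1 (H.sub _ H.uu_uz)
theorem U_le : b.U ≤ P := b.U_le_iff.2 ⟨H.zP, H.uP⟩
theorem conjP {s x : G} (hs : s ∈ b.S) (hx : x ∈ P) : s * x * s⁻¹ ∈ P := (conj_mem_norm (H.norm hs)).2 hx

theorem not_both {y : G} (h1 : IsConj y b.z) (h2 : IsConj y b.u) : False := H.nc (h2.symm.trans h1)

theorem eq_z {v : G} (hv : v ∈ b.U) (h : IsConj v b.z) : v = b.z := by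
  rcases b.mem_U.1 hv with rfl | rfl | rfl | rfl
  exacts [absurd (isConj_one_right.1 h) b.z_ne, rfl, absurd h H.nc, (H.not_both h (uu_isConj H.uu_uz)).elim]

theorem uu_of_U {v : G} (hv : v ∈ b.U) (h : IsConj v b.u) : b.UU v := by
  rcases b.mem_U.1 hv with rfl | rfl | rfl | rfl
  exacts [absurd (isConj_one_right.1 h) b.u_ne, absurd h.symm H.nc, uu_u, H.uu_uz]

theorem cf_mul {y w : G} (c : Cf b y w) : Cf b y (w * y) := by
  obtain ⟨h, h1, h2⟩ := c.ex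
  refine ⟨c.yS, mul_mem c.wS c.yS, ⟨h * t, ?_, ?_⟩, c.ne⟩
  · rw [← conj_conj, b.conj_u H.tS H.tT, conj_mul', h1, h2]
  · rw [← conj_conj, b.conj_z H.tS, h2]

theorem sqU {x : G} (hx : x ∈ P) : x * x ∈ b.U := by
  rcases H.sq x hx with e | e <;> rw [e]
  exacts [one_mem _, b.zU]

/-- Commutation is bilinear on `P`. -/
theorem cm_mul {x y y' : G} (hx : x ∈ P) (hy : y ∈ P) (hy' : y' ∈ P) :
    x * (y * y') = y * y' * x ↔ (x * y = y * x ↔ x * y' = y' * x) := by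
  have k : ∀ a : G, x * a = a * x ↔ x * a * x⁻¹ = a := fun a => ⟨conj_eq_of_comm, comm_of_conj_eq⟩
  have hz := b.z_ne
  rw [k, k, k, conj_mul']
  rcases H.cm x hx y hy with e | e <;> rcases H.cm x hx y' hy' with e' | e' <;> rw [e, e']
  · simp
  · simp [hz]
  · rw [mul_assoc, ← b.z_comm _ (H.le hy'), ← mul_assoc]; simp [hz]
  · rw [mul_assoc, ← comm_assoc (b.z_comm _ (H.le hy')), b.z_sq]; simp [hz]

theorem cm_mul' {x x' y : G} (hx : x ∈ P) (hx' : x' ∈ P) (hy : y ∈ P) :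
    x * x' * y = y * (x * x') ↔ (x * y = y * x ↔ x' * y = y * x') := by
  rw [eq_comm, H.cm_mul hy hx hx', eq_comm (a := y * x), eq_comm (a := y * x')]

/-- The commutator `[τ, t]`. -/
theorem pP {τ : G} (hτ : τ ∈ b.S) : τ * t * τ⁻¹ * t ∈ P := mul_mem (H.conjP hτ H.tP) H.tP

theorem pT {τ : G} (hτ : τ ∈ b.S) : τ * t * τ⁻¹ * t ∈ b.T := by
  simpa only [inv_of_sq H.tsq] using b.comm_mem_T hτ H.tS

theorem conj_not_T {τ : G} (hτ : τ ∈ b.S) : τ * t * τ⁻¹ ∉ b.T := fun e => by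
  have h := mul_mem (inv_mem e) (H.pT hτ)
  rw [inv_mul_cancel_left] at h
  exact H.tT h

/-- If `a^τ = a v` with `v ∈ U`, then `a` centralises `[τ, t]` iff `v ∈ ⟨z⟩`. -/
theorem cm_p {τ a v : G} (hτ : τ ∈ b.S) (ha : a ∈ P) (hv : v ∈ b.U) (e : τ * a * τ⁻¹ = a * v) :
    a * (τ * t * τ⁻¹ * t) = τ * t * τ⁻¹ * t * a ↔ v = 1 ∨ v = b.z := by
  have h1 := H.conjP hτ H.tP
  have h2 : a * t = t * a ↔ a * v * (τ * t * τ⁻¹) = τ * t * τ⁻¹ * (a * v) := by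
    rw [← e]; exact ⟨conj_comm τ, comm_of_conj⟩
  rw [H.cm_mul ha h1 H.tP, h2, H.cm_mul' ha (H.U_le hv) h1]
  have h3 : v * (τ * t * τ⁻¹) = τ * t * τ⁻¹ * v ↔ v = 1 ∨ v = b.z :=
    ⟨fun h => b.U_fix (H.le h1) (H.conj_not_T hτ) hv (conj_eq_of_comm h.symm), by
      rintro (rfl | rfl)
      exacts [by simp, (b.z_comm _ (H.le h1)).symm]⟩
  rw [h3]; tauto

theorem t_inv_p {τ : G} : t * (τ * t * τ⁻¹ * t) * t⁻¹ = (τ * t * τ⁻¹ * t)⁻¹ := by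
  conv_rhs => rw [mul_inv_rev, conj_inv, inv_of_sq H.tsq]
  group

theorem p_mem_U {τ : G} (h : τ * t * τ⁻¹ * t ∈ b.U) : τ * t * τ⁻¹ * t = 1 ∨ τ * t * τ⁻¹ * t = b.z :=
  b.U_fix H.tS H.tT h (by rw [H.t_inv_p, inv_of_sq (b.U_sq h)])

theorem inv_p {τ : G} (h : τ * τ = 1) : τ * (τ * t * τ⁻¹ * t) * τ⁻¹ = (τ * t * τ⁻¹ * t)⁻¹ := by
  conv_rhs => rw [mul_inv_rev, conj_inv, inv_of_sq H.tsq]
  rw [inv_of_sq h, ← mul_assoc, ← mul_assoc, sq_cancel h]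
  group

/-- No element of `P ∖ T` centralises `τ ∈ T` if `C_S(τ)` has no root of `z`. -/
theorem beta2 {τ r : G} (hτ : τ ∈ b.T) (hn : NoRoot b τ) (hr : r ∈ P) (hT : r ∉ b.T) : r * τ ≠ τ * r := fun e => by
  rcases H.sq r hr with h | h
  · refine hn (r * b.u) (mul_mem (H.le hr) b.u_mem) ?_ ?_
    · rw [mul_assoc, ← (b.mem_T.1 hτ).2, ← mul_assoc, e, mul_assoc]
    · calc _ = r * b.u * r⁻¹ * b.u := by rw [inv_of_sq h]; group
        _ = _ := by rw [b.conj_u (H.le hr) hT, b.uz, b.uu]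
  · exact hn r (H.le hr) e h

variable [Finite G]

theorem ext_u {w : G} (hw : IsConj w b.u) :
    ∃ g : G, g * w * g⁻¹ = b.u ∧ ∀ c ∈ b.S, c * w = w * c → g * c * g⁻¹ ∈ b.T := by
  obtain ⟨g, hg⟩ := isConj_iff.1 hw
  obtain ⟨k, -, h1, h2⟩ := exists_extremal (H.caseC.sylCu H.nc) (mem_top g) hg
    (C := b.S ⊓ centralizer {w}) b.pS.to_inf_left le_top fun c hc => mem_cen.1 hc.2
  exact ⟨k, h1, fun c hc h => h2 c ⟨hc, mem_cen.2 h⟩⟩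

theorem iso' {g h : G} (h1 : g * (h * b.u * h⁻¹) * g⁻¹ = b.u) (h2 : g * (h * b.z * h⁻¹) * g⁻¹ ∈ b.T) :
    g * (h * b.z * h⁻¹) * g⁻¹ = b.z := by
  rw [conj_conj] at h1 h2 ⊢
  exact H.iso _ (comm_of_conj_eq h1) h2

/-- A conjugate of `u` in `S` centralised by a root of `z` lies in `UU`. -/
theorem sqw {w : G} (hS : w ∈ b.S) (hw : IsConj w b.u) (h : ¬ b.UU w) : NoRoot b w := fun e he h1 h2 => by
  obtain ⟨g, h3, h4⟩ := H.ext_u hw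
  have h5 := b.al (h4 e he h1) (by rw [← conj_mul', h2]; exact conj_sq b.z_sq)
  rw [← conj_mul', h2] at h5
  have h6 := H.eq_z h5 (isConj_iff.2 ⟨g, rfl⟩).symm
  refine h ⟨hS, g⁻¹, ?_, by rw [← h3]; group⟩
  rw [← h6]; nth_rewrite 2 [h6]; rw [← h6]; group

theorem cf_ext {y w : G} (c : Cf b y w) :
    ∃ g : G, g * w * g⁻¹ = b.u ∧ g * y * g⁻¹ = b.z ∧ ∀ c ∈ b.S, c * w = w * c → g * c * g⁻¹ ∈ b.T := by
  obtain ⟨g, h1, h2⟩ := H.ext_u c.conj_w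
  have h3 := h2 y c.yS c.comm.symm
  obtain ⟨h, rfl, rfl⟩ := c.ex
  exact ⟨g, h1, H.iso' h1 h3, h2⟩

theorem cf_cent {y w e : G} (c : Cf b y w) (he : e ∈ b.S) (h : e * w = w * e) : e * y = y * e := by
  obtain ⟨g, -, h1, h2⟩ := H.cf_ext c
  exact comm_of_conj (g := g) (by rw [h1]; exact b.z_comm _ (h2 e he h).1)

theorem cf_not_uu {y w : G} (c : Cf b y w) : ¬ b.UU w := fun ⟨_, h, h1, h2⟩ => by
  obtain ⟨g, h3, h4, h5⟩ := H.cf_ext c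
  have h6 := h5 _ b.z_mem (b.z_comm w c.wS).symm
  rw [← conj_eq_of_comm h1] at h6
  have h7 := H.iso' (h2.symm ▸ h3) h6
  rw [conj_eq_of_comm h1] at h7
  exact c.ne (conj_inj.1 (h4.trans h7.symm))

theorem cf_noRoot {y w : G} (c : Cf b y w) : NoRoot b w := H.sqw c.wS c.conj_w (H.cf_not_uu c)

theorem cf_wT {y w : G} (c : Cf b y w) : w ∈ b.T := by
  by_contra h
  obtain ⟨k, h1, -, h2⟩ := H.kap.m0 c.wS h c.wsq
  exact H.cf_noRoot c k h1.mem.1 h2.symm h1.sq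

theorem cf_yT {y w : G} (c : Cf b y w) : y ∈ b.T := (mul_mem_cancel_left (H.cf_wT c)).1 (H.cf_wT (H.cf_mul c))

theorem cf_wU {y w : G} (c : Cf b y w) : w ∉ b.U := fun h => H.cf_not_uu c (H.uu_of_U h c.conj_w)

theorem cf_yU {y w : G} (c : Cf b y w) : y ∉ b.U := fun h => c.ne (H.eq_z h c.conj_y)

theorem mu_ne {τ v : G} (hn : NoRoot b τ) (e : τ * κ * τ⁻¹ = κ * v) : v ≠ 1 := fun h =>
  hn κ H.kap.mem.1 (comm_of_conj_eq (by simpa [h] using e)).symm H.kap.sq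

/-- The elements of `P ⊓ T`, given `q` independent of `κ` modulo `U`. -/
theorem p1_cases {q g : G} (hq : q ∈ P) (hT : q ∈ b.T) (h1 : q ∉ b.U) (h2 : κ * q ∉ b.U) (hg : g ∈ P)
    (hgT : g ∈ b.T) : g ∈ b.U ∨ κ * g ∈ b.U ∨ q * g ∈ b.U ∨ κ * q * g ∈ b.U :=
  (eq_E2 (A := P ⊓ b.T) inf_le_right (le_inf H.U_le b.U_le) H.card (fun _ ha => H.sqU ha.1) ⟨H.kP, H.kap.mem⟩
    ⟨hq, hT⟩ H.kap.not_mem h1 h2).2 g ⟨hg, hgT⟩

omit H in
/-- Elements congruent modulo `U` have the same square. -/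
theorem sq_congr {a g : G} (ha : a ∈ b.T) (h : a * g ∈ b.U) : g * g = (a * a)⁻¹ := by
  have h1 := b.TU (inv_mem ha) h
  calc g * g = a⁻¹ * (a * g * a⁻¹) * (a * g) := by group
    _ = a⁻¹ * a⁻¹ * (a * g * (a * g)) := by rw [← h1]; group
    _ = _ := by rw [b.U_sq h]; group

theorem kap_not_inv {g : G} (h : κ * g ∈ b.U) : g * g ≠ 1 := by
  rw [sq_congr H.kap.mem h, H.kap.sq, b.z_inv]; exact b.z_ne

/-- An involution of `P ⊓ T` outside `U`. -/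
theorem beta0 {q : G} (hq : q ∈ P) (hT : q ∈ b.T) (h1 : q ∉ b.U) (h2 : q * q = 1) :
    κ * q ∉ b.U ∧ κ * q ≠ q * κ ∧ κ * q * (κ * q) = 1 ∧ ∃ s ∈ b.S, κ * q * (s * q * s⁻¹) ∈ b.U := by
  have h3 : κ * q ∉ b.U := fun h => H.kap_not_inv h h2
  obtain ⟨s, hs, h4⟩ : ∃ s ∈ b.S, s * q * s⁻¹ * q⁻¹ ∉ b.U := by
    by_contra! h
    exact h1 (b.n1 hT h2 h)
  have h5 : κ * q * (s * q * s⁻¹) ∈ b.U := by
    rcases H.p1_cases hq hT h1 h3 (H.conjP hs hq) (b.conj_T hs hT) with h | h | h | h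
    · exact absurd ((b.conj_U_iff hs).1 h) h1
    · exact absurd (conj_sq h2) (H.kap_not_inv h)
    · refine absurd ?_ h4
      simpa [inv_of_sq h2, mul_assoc, sq_cancel h2] using b.conj_U hT.1 h
    · exact h
  have h6 : κ * q * (κ * q) = 1 := by
    have := sq_congr (mul_mem H.kap.mem hT) h5
    rwa [conj_sq h2, eq_comm, inv_eq_one] at this
  refine ⟨h3, fun e => b.z_ne ?_, h6, s, hs, h5⟩
  rw [← h6, ← H.kap.sq, mul_assoc, ← comm_assoc e, h2, mul_one]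

end Hyp

end Cfsg.Agent.NE.BN
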