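import Mathlib
import Cfsg.Agent.NE.Alpha
import Cfsg.Agent.NE.BetaNA

/-! Case (β) with `u` not conjugate to `z` is impossible. See `stubs/Cfsg/Agent/NE/PLAN.md`. -/

set_option autoImplicit false
set_option linter.unusedSectionVars false

namespace Cfsg.Agent.NE

open Cfsg.Agent.Inv.Fz Cfsg.Agent.Rec Subgroup B8

variable {G : Type*} [Group G] [Finite G] {b : B8 G}

namespace BN.Hyp

variable {t κ : G} {P : Subgroup G} (H : Hyp b t κ P) {y w : G}
include H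

theorem tk_not_T : t * κ ∉ b.T := fun e => H.tT ((mul_mem_cancel_right H.kap.mem).1 e)

theorem conj_t_of_p {τ v : G} (h : τ * t * τ⁻¹ * t = v) : τ * t * τ⁻¹ = v * t := by
  rw [← h, mul_assoc _ t t, H.tsq, mul_one]

omit H in
theorem shift {τ a v g : G} (hτ : τ ∈ b.T) (ha : a ∈ b.T) (hv : v ∈ b.U) (e : τ * a * τ⁻¹ = a * v)
    (hg : a * g ∈ b.U) : τ * g * τ⁻¹ = g * v := by
  have k := conj_eq_of_comm (b.TU hτ hg)
  rw [conj_mul', e, mul_assoc, mul_right_inj, ← eq_inv_mul_iff_mul_eq, inv_of_sq (b.U_sq hv)] at k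
  rw [k, b.TU ((mul_mem_cancel_left ha).1 (b.U_le hg)) hv]

theorem p_not_U (c : Cf b y w) : w * t * w⁻¹ * t ∉ b.U := fun h => by
  rcases H.p_mem_U h with e | e
  · exact H.beta2 (H.cf_wT c) (H.cf_noRoot c) H.tP H.tT
      (comm_of_conj_eq (by simpa using H.conj_t_of_p e)).symm
  · obtain ⟨v, hv, h1⟩ := H.kap.kap0.conj c.wS
    have h2 := ((H.cm_p c.wS H.kP hv h1).1 (by rw [e]; exact b.z_comm _ H.kap.mem.1)).resolve_left
      (H.mu_ne (H.cf_noRoot c) h1)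
    refine H.beta2 (H.cf_wT c) (H.cf_noRoot c) (mul_mem H.tP H.kP) H.tk_not_T (comm_of_conj_eq ?_).symm
    rw [conj_mul', H.conj_t_of_p e, h1, h2, mul_assoc, ← mul_assoc t, b.z_comm _ (mul_mem H.tS H.kap.mem.1),
      sq_cancel b.z_sq]

theorem w_not_P (c : Cf b y w) : w ∉ P := fun h => H.p_not_U c (by
  rcases H.cm w h t H.tP with e | e <;> rw [e]
  · rw [H.tsq]; exact one_mem _
  · rw [mul_assoc, ← b.z_comm t H.tS, sq_cancel H.tsq]; exact b.zU)

theorem beta3 (c : Cf b y w) : w * t * w⁻¹ * t * (w * t * w⁻¹ * t) = b.z := by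
  have hP := H.pP c.wS
  have hT := H.pT c.wS
  have hU := H.p_not_U c
  have hi := H.inv_p c.wsq
  have hcm := fun a v => H.cm_p (a := a) (v := v) c.wS
  have ht' := uu_conj H.tU c.wS
  have htT := H.conj_not_T c.wS
  generalize hp' : w * t * w⁻¹ * t = p at hP hT hU hi hcm ⊢
  generalize w * t * w⁻¹ = t' at *
  refine (H.sq p hP).resolve_left fun p2 => ?_
  obtain ⟨h3, h4, -, s, hs, h5⟩ := H.beta0 hP hT hU p2
  obtain ⟨v, hv, h1⟩ := H.kap.kap0.conj c.wS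
  have h2 := (b.U_cases hv).resolve_left fun e => h4 ((hcm _ _ H.kP hv h1).2 e)
  rw [inv_of_sq p2] at hi
  have wT := H.cf_wT c
  have pw : p * w = w * p := (comm_of_conj_eq hi).symm
  have py := H.cf_cent c hT.1 pw
  have hc1 : w * p * w⁻¹ * p⁻¹ ∈ b.U := by rw [hi]; simp
  have h6 : y ∈ b.E2 p w := b.max16 ((E2_le.2 ⟨b.U_le, hT, wT⟩).trans b.T_le) (E2_sq hT wT p2 c.wsq pw)
    (card_E2 hT wT (p2 ▸ one_mem _) (c.wsq ▸ one_mem _) hc1 hU (H.cf_wU c)
      fun e => H.w_not_P c ((mul_mem_cancel_left hP).1 (H.U_le e))) c.yS c.ysq fun a ha =>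
    (mem_cen.1 ((E2_le (K := centralizer {y})).2
      ⟨fun v hv => mem_cen.2 (b.TU (H.cf_yT c) hv).symm, mem_cen.2 py, mem_cen.2 c.comm⟩ ha)).symm
  have h7 : p * y ∈ b.U := by
    rcases (mem_E2 hT wT (p2 ▸ one_mem _) (c.wsq ▸ one_mem _) hc1).1 h6 with e | e | e | e
    · exact absurd e (H.cf_yU c)
    · exact e
    · exact absurd e (H.cf_wU (H.cf_mul c))
    · exact absurd ((mul_mem_cancel_left hP).1 (mul_assoc p w y ▸ H.U_le e)) (H.w_not_P (H.cf_mul c))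
  have mv : ∀ g, p * g ∈ b.U → κ * p * (s * g * s⁻¹) ∈ b.U := fun g hg => by
    have := mul_mem h5 (b.conj_U hs hg)
    rwa [conj_mul', mul_assoc, sq_cancel (conj_sq p2)] at this
  have tt : t' * t = t * t' := by
    rw [← inv_of_sq (hp' ▸ p2 : t' * t * (t' * t) = 1), mul_inv_rev, inv_of_sq H.tsq, inv_of_sq (uu_sq ht')]
  obtain ⟨n, n1, n2, n3⟩ := H.pull
  obtain ⟨x, rfl⟩ : ∃ x, n * x * n⁻¹ = t' := ⟨n⁻¹ * t' * n, by group⟩
  have hx := (n3 x).2 ht'
  have xT : x ∈ b.T := b.mem_T.2 ⟨hx.1, comm_of_conj (g := n) (n2.symm ▸ tt)⟩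
  have xU : x ∉ b.U := fun e => by
    rcases b.mem_U.1 e with rfl | rfl | rfl | rfl
    · exact htT (by simp)
    · exact htT ((conj_eq_of_comm n1).symm ▸ b.zT)
    · exact hU (by rw [← hp', n2, H.tsq]; exact one_mem _)
    · refine hU ?_
      rw [← hp', conj_mul', n2, conj_eq_of_comm n1, mul_assoc, ← b.z_comm t H.tS, sq_cancel H.tsq]
      exact b.zU
  obtain ⟨x', hx', h8⟩ : ∃ x', b.UU x' ∧ κ * p * x' ∈ b.U := by
    rcases H.p1_cases hP hT hU h3 (H.sub x hx) xT with e | e | e | e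
    exacts [absurd e xU, absurd (uu_sq hx) (H.kap_not_inv e), ⟨_, uu_conj hx hs, mv x e⟩, ⟨x, hx, e⟩]
  have h9 : w * x' * w⁻¹ = x' * v := shift wT (mul_mem H.kap.mem hT) hv
    (by rw [conj_mul', h1, hi, mul_assoc, ← b.TU hT hv, mul_assoc]) h8
  have h10 : ∀ v0 ∈ b.U, b.UU (x' * v0) := fun v0 h0 => by
    have k1 : b.UU (x' * v) := h9 ▸ uu_conj hx' c.wS
    have k2 := H.mulz _ k1
    rcases b.mem_U.1 h0 with rfl | rfl | rfl | rfl
    · simpa using hx'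
    · exact H.mulz _ hx'
    · rcases h2 with rfl | rfl
      exacts [k1, by rwa [← mul_assoc, b.zz] at k2]
    · rcases h2 with rfl | rfl
      exacts [by rwa [mul_assoc] at k2, k1]
  have h11 := h10 _ (mul_mem (inv_mem h8) (mv y h7))
  rw [show x' * ((κ * p * x')⁻¹ * (κ * p * (s * y * s⁻¹))) = s * y * s⁻¹ by group] at h11
  exact H.not_both c.conj_y ((isConj_iff.2 ⟨s, rfl⟩).trans (uu_isConj h11))

theorem conj_wz (c : Cf b y w) : IsConj w (w * b.z) := by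
  refine isConj_iff.2 ⟨w * t * w⁻¹ * t, ?_⟩
  have h1 := H.beta3 c
  have h2 := H.inv_p c.wsq
  generalize w * t * w⁻¹ * t = p at *
  calc p * w * p⁻¹ = p * (w * p * w⁻¹)⁻¹ * w := by group
    _ = _ := by rw [h2, inv_inv, h1, b.z_comm w c.wS]

theorem beta4 (c : Cf b y w) {v : G} (hv : v = b.u ∨ v = b.u * b.z) : IsConj (y * v) b.u := by
  obtain ⟨g, -, h1, h2⟩ := H.cf_ext c
  have wT := H.cf_wT c
  have c1 : Cf b (g * b.z * g⁻¹) (g * b.u * g⁻¹) :=
    ⟨(h2 _ b.z_mem (b.TU wT b.zU).symm).1, (h2 _ b.u_mem (b.TU wT b.uU).symm).1, ⟨g, rfl, rfl⟩,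
      fun e => c.ne (conj_inj.1 (h1.trans e.symm))⟩
  have c2 : Cf b (g * b.z * g⁻¹) (g * v * g⁻¹) := by
    rcases hv with rfl | rfl
    exacts [c1, by rw [conj_mul']; exact H.cf_mul c1]
  have h3 := H.conj_wz c2
  rw [← h1, ← conj_mul', ← b.TU (H.cf_yT c) (by rcases hv with rfl | rfl; exacts [b.uU, b.uzU])] at h3
  exact ((isConj_iff.2 ⟨g, rfl⟩).trans h3.symm).trans c2.conj_w

theorem y_not_P (c : Cf b y w) : y ∉ P := fun hy => by
  have h1 := (H.cm_p c.wS hy (one_mem _) (by rw [mul_one, conj_eq_of_comm c.comm])).2 (Or.inl rfl)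
  have yT := H.cf_yT c
  obtain ⟨h3, h4, h5, -⟩ := H.beta0 hy yT (H.cf_yU c) c.ysq
  have h2 := H.beta3 c
  rcases H.p1_cases hy yT (H.cf_yU c) h3 (H.pP c.wS) (H.pT c.wS) with e | e | e | e
  · exact H.p_not_U c e
  · exact h4 (((H.cm_mul hy H.kP (H.pP c.wS)).1 (b.TU yT e)).2 h1).symm
  · rw [sq_congr yT e, c.ysq, inv_one] at h2
    exact b.z_ne h2.symm
  · rw [sq_congr (mul_mem H.kap.mem yT) e, h5, inv_one] at h2
    exact b.z_ne h2.symm

theorem cf_false (c : Cf b y w) : False := by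
  have yT := H.cf_yT c
  have wT := H.cf_wT c
  have kT := H.kap.mem
  have yu : NoRoot b (y * b.u) := H.sqw (mul_mem c.yS b.u_mem) (H.beta4 c (Or.inl rfl)) fun e =>
    H.y_not_P c ((mul_mem_cancel_right H.uP).1 (H.sub _ e))
  have nf : ∀ g v, (v = b.u ∨ v = b.u * b.z) → g * y * g⁻¹ ≠ y * v := fun g v hv e =>
    H.not_both c.conj_y ((isConj_iff.2 ⟨g, e⟩).trans (H.beta4 c hv))
  obtain ⟨vy, hvy, e1⟩ := H.kap.kap0.conj c.yS
  obtain rfl : vy = b.z := by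
    refine ((b.U_cases hvy).resolve_right fun h => nf κ⁻¹ vy h ?_).resolve_left (H.mu_ne yu ?_)
    · rw [b.TU yT hvy, ← mul_right_inj κ, ← mul_assoc κ vy, ← e1]; group
    · rw [← conj_conj, conj_eq_of_comm (b.TU kT b.uU).symm, e1]
  obtain ⟨v, hv, e2⟩ := H.kap.kap0.conj c.wS
  have hv1 : ¬ (v = 1 ∨ v = b.z) := by
    rintro (h | h)
    · exact H.mu_ne (H.cf_noRoot c) e2 h
    · refine H.mu_ne (v := 1) (H.cf_noRoot (H.cf_mul c)) ?_ rfl
      rw [← conj_conj, e1, conj_mul', e2, b.conj_z c.wS, h, b.zz, mul_one]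
  have hv2 := (b.U_cases hv).resolve_left hv1
  have h1 := fun e => hv1 ((H.cm_p c.wS H.kP hv e2).1 e)
  have h2 := (H.cm_p c.yS H.kP b.zU e1).2 (Or.inr rfl)
  have hP := H.pP c.wS
  have hT := H.pT c.wS
  have qP := H.pP c.yS
  have qT := H.pT c.yS
  have ht' := H.conjP c.wS H.tP
  have h3 : y * t * y⁻¹ = y * t * y⁻¹ * t * t := H.conj_t_of_p rfl
  have h4 : y * (w * t * w⁻¹ * t) * y⁻¹ = w * (y * t * y⁻¹) * w⁻¹ * (y * t * y⁻¹) := by
    rw [conj_mul', conj_conj, conj_conj, c.comm]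
  have h5 := H.p_mem_U (τ := y)
  have h6 := H.p_not_U c
  generalize hq : y * t * y⁻¹ * t = q at h2 qP qT h3 h5
  generalize hp : w * t * w⁻¹ * t = p at h1 hP hT h4 h6
  have kk : ∀ g ∈ P, κ * g ∈ b.U → κ * g = g * κ := fun g hg e => ((H.cm_mul H.kP H.kP hg).1 (b.TU kT e)).1 rfl
  rcases H.p1_cases hP hT h6 (fun e => h1 (kk p hP e)) qP qT with e | e | e | e
  · obtain ⟨r, rP, rT, h7⟩ : ∃ r ∈ P, r ∉ b.T ∧ y * r * y⁻¹ = r * b.z := by
      rcases h5 e with rfl | rfl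
      · exact ⟨t * κ, mul_mem H.tP H.kP, H.tk_not_T, by rw [conj_mul', h3, e1, one_mul, mul_assoc]⟩
      · exact ⟨t, H.tP, H.tT, by rw [h3, b.z_comm t H.tS]⟩
    refine H.beta2 (mul_mem yT b.uT) yu rP rT (comm_of_conj_eq ?_).symm
    have h8 : b.u * r * b.u⁻¹ = r * b.z := by
      have := b.conj_u (inv_mem (H.le rP)) fun e => rT (inv_mem_iff.1 e)
      calc _ = r * (r⁻¹ * b.u * r⁻¹⁻¹) * b.u⁻¹ := by group
        _ = _ := by rw [this, b.uz]; group
    rw [← conj_conj, h8, conj_mul', h7, b.conj_z c.yS, b.zz]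
  · have h7 := shift wT kT hv e2 e
    have h8 : q * q = b.z := by rw [sq_congr kT e, H.kap.sq, b.z_inv]
    have h9 : y * p * y⁻¹ = v * (q * (w * t * w⁻¹ * q * (w * t * w⁻¹)⁻¹)) * p := by
      rw [h4, h3, conj_mul', h7, b.TU qT hv, ← hp]; group
    have h10 : ∀ v', (v' = b.u ∨ v' = b.u * b.z) → y * p * y⁻¹ ≠ v' * p := fun v' h' e' => nf p⁻¹ v' h' (by
      have hv' : v' ∈ b.U := by rcases h' with rfl | rfl; exacts [b.uU, b.uzU]
      calc _ = p⁻¹ * (y * p * y⁻¹) * y := by group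
        _ = _ := by rw [e', ← b.TU hT hv', inv_mul_cancel_left, b.TU yT hv'])
    rcases H.cm _ ht' q qP with e' | e' <;> rw [e'] at h9
    · refine h10 _ ?_ (h8 ▸ h9)
      rcases hv2 with rfl | rfl
      exacts [Or.inr rfl, Or.inl (b.zz _)]
    · rw [← mul_assoc q, h8, b.z_sq, mul_one] at h9
      exact h10 _ hv2 h9
  · exact h1 (((H.cm_mul H.kP hP qP).1 (b.TU kT e)).2 h2)
  · exact h1 (((H.cm_mul H.kP hP qP).1 (kk _ (mul_mem hP qP) (mul_assoc κ p q ▸ e))).2 h2)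

end BN.Hyp

namespace B8

theorem beta_not_fused (ho : b.NoIso) (hu : ¬ IsConj b.u b.z) (hI : b.IsoU) {Q : Subgroup G} (hQ : Con b.z b.S Q)
    {w : G} (hw : b.UU w) (hT : w ∉ b.T) : False := by
  let P : Subgroup G := closure {x | b.UU x}
  have hC : b.CaseC := ⟨w, hw.1, hT⟩
  have PQ : P ≤ Q := (closure_le _).2 fun x hx => (UU.mem hQ hx).1
  have PS : P ≤ b.S := PQ.trans hQ.le
  have sub : ∀ x, b.UU x → x ∈ P := fun x hx => subset_closure hx
  have hn : b.S ≤ normalizer (P : Set G) := fun s hs => mem_normalizer_of_conj_mem (by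
    rw [← cj_le_iff, cj_closure, closure_le]
    rintro _ ⟨x, hx, rfl⟩
    exact sub _ (BN.uu_conj hx hs))
  have uz : b.UU (b.u * b.z) := b.conj_u hw.1 hT ▸ BN.uu_conj BN.uu_u hw.1
  have hU : b.U ≤ P := b.U_le_iff.2 ⟨(mul_mem_cancel_left (sub _ BN.uu_u)).1 (sub _ uz), sub _ BN.uu_u⟩
  have cm : ∀ x ∈ P, ∀ y ∈ P, x * y * x⁻¹ = y ∨ x * y * x⁻¹ = y * b.z := fun x hx y hy => by
    induction hy using closure_induction with
    | mem y hy => exact (UU.mem hQ hy).2.1 x (PQ hx)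
    | one => simp
    | mul y y' hy hy' h1 h2 =>
      rw [conj_mul']
      rcases h1 with e | e <;> rcases h2 with e' | e' <;> rw [e, e']
      · exact Or.inl rfl
      · exact Or.inr (mul_assoc ..).symm
      · exact Or.inr (by rw [mul_assoc, ← b.z_comm _ (PS hy'), mul_assoc])
      · exact Or.inl (by rw [mul_assoc, ← comm_assoc (b.z_comm _ (PS hy')), b.z_sq, mul_one])
    | inv y hy h1 =>
      rw [← conj_inv]
      refine h1.imp (fun e => by rw [e]) fun e => ?_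
      rw [e, mul_inv_rev, b.z_inv, b.z_comm _ (inv_mem (PS hy))]
  have sq : ∀ x ∈ P, x * x = 1 ∨ x * x = b.z := fun x hx => by
    induction hx using closure_induction with
    | mem y hy => exact Or.inl (BN.uu_sq hy)
    | one => simp
    | mul y y' hy hy' h1 h2 =>
      have h3 : y * y' * (y * y') = y * (y' * y * y'⁻¹) * (y' * y') := by group
      rw [h3]
      rcases cm y' hy' y hy with e | e <;> rw [e] <;> try rw [← mul_assoc y y]
      all_goals rcases h1 with e | e <;> rcases h2 with e' | e' <;> simp [e, e', b.z_sq]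
    | inv y hy h1 =>
      rw [← mul_inv_rev]
      exact h1.imp (fun e => by rw [e, inv_one]) fun e => by rw [e, b.z_inv]
  have hP1 : b.S ≤ normalizer ((P ⊓ b.T : Subgroup G) : Set G) := fun s hs =>
    mem_normalizer_of_conj_mem fun x hx => ⟨(conj_mem_norm (hn hs)).2 hx.1, b.conj_T hs hx.2⟩
  have card : Nat.card ↥(P ⊓ b.T) ≤ 16 := by
    obtain ⟨h1, -, h3⟩ := ext_elem (A := ⊥) (x := b.z) (by simp) b.z_sq (by simp)
    have h4 := b.sec PS (N := ext ⊥ b.z) (ext_le.2 ⟨bot_le, hU b.zU⟩) (fun x hx => by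
      rw [← cj_eq_iff, cj_ext, cj_bot, b.conj_z (PS hx)]) fun a ha => by
        rcases sq a ha with e | e <;> rw [e]
        exacts [one_mem _, self_mem_ext _ _]
    rw [h3 (by simpa using b.z_ne), card_bot] at h4
    have h5 := card_ext (hP1 hw.1) (by rw [BN.uu_sq hw]; exact one_mem _) fun e => hT e.2
    have h6 := card_le_of_le (ext_le.2 ⟨inf_le_left, sub w hw⟩ : ext (P ⊓ b.T) w ≤ P)
    omega
  obtain ⟨κ, hκ, kap⟩ := hC.exists_kap inf_le_right hP1 fun e => hT (b.U_le (ho.uniq hC hw.1 (BN.uu_sq hw)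
    fun s hs => by
      have h1 := BN.uu_conj hw hs
      have h2 : s * w * s⁻¹ * w⁻¹ ∈ b.U := e ⟨P.mul_mem (sub _ h1) (P.inv_mem (sub _ hw)), b.comm_mem_T hs hw.1⟩
      have h3 := (inverts_mul (BN.uu_sq h1) (BN.uu_sq hw)).2
      rw [inv_of_sq (BN.uu_sq hw)] at h2
      rw [inv_of_sq (b.U_sq h2)] at h3
      refine (b.U_fix hw.1 hT h2 h3).imp (fun e => ?_) fun e => ?_
      · rwa [mul_eq_one_iff_eq_inv, inv_of_sq (BN.uu_sq hw)] at e
      · rw [b.z_comm w hw.1, ← e, mul_assoc _ w w, BN.uu_sq hw, mul_one]))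
  have H : BN.Hyp b w κ P := ⟨hu, hI, hw, hT, PS, hn, sub, cm, sq, card, hκ.1, kap, fun x hx => by
    obtain ⟨-, -, n, h1, h2, h3⟩ := UU.mem hQ hx
    have := (h3 _).1 uz
    rwa [conj_mul', h2, conj_eq_of_comm h1] at this, (UU.mem hQ hw).2.2⟩
  obtain ⟨y, hy, h1, h2⟩ := ho.p0
  obtain ⟨g, h3, h4⟩ := b.extz' h1
  exact H.cf_false (y := g * b.z * g⁻¹) (w := g * b.u * g⁻¹)
    ⟨h4 _ b.z_mem (b.TU hy b.zU).symm, h4 _ b.u_mem (b.TU hy b.uU).symm, ⟨g, rfl, rfl⟩,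
      fun e => h2 (conj_inj.1 (h3.trans e.symm))⟩

end B8

end Cfsg.Agent.NE
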