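import Mathlib
import Cfsg.Agent.NE.Defs2
import Cfsg.Agent.GT.PConstrained
import Cfsg.Agent.Loc.MssSyl

/-! Consequences of 2-constraint. See `stubs/Cfsg/Agent/NE/PLAN.md`. -/

set_option autoImplicit false

namespace Cfsg.Agent.NE

section

open Cfsg.Agent.GT Cfsg.Agent.Loc.Mss Subgroup
open scoped commutatorElement

variable {H H' : Type*} [Group H] [Finite H] [Group H']

theorem constr_conj {π : H →* H'} (hk : (Nat.card π.ker).Coprime 2) {L : Subgroup H} {x y : H}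
    (hx : x ∈ L) (hy : y ∈ L) (px : IsPGroup 2 (zpowers x)) (py : IsPGroup 2 (zpowers y))
    (e : π x = π y) : ∃ k ∈ L, k * x * k⁻¹ = y := by
  obtain ⟨R, h1, hR⟩ := Syl.exists_ge (L := L ⊓ (zpowers (π y)).comap π) py
    (zpowers_le.2 ⟨hy, mem_zpowers (π y)⟩)
  obtain ⟨k, ⟨hk1, i, hi⟩, h2⟩ := hR.conj_le px (zpowers_le.2 ⟨hx, e ▸ mem_zpowers (π x)⟩)
  have h3 := cj_le_iff.1 h2 x (mem_zpowers x)
  have h4 : π (k * x * k⁻¹) = π y := by
    rw [map_mul, map_mul, map_inv, e, ← hi]; group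
  refine ⟨k, hk1, eq_of_mul_inv_eq_one (mem_bot.1 ((eq_bot_of_coprime (P := R ⊓ π.ker)
    hR.pg.to_inf_left inf_le_right hk).le (mem_inf.2 ⟨mul_mem h3 (inv_mem (h1 (mem_zpowers y))), ?_⟩)))⟩
  rw [MonoidHom.mem_ker, map_mul, h4, map_inv, mul_inv_cancel]

theorem constr_mem (h : centralizer (pCore 2 H : Set H) ≤ pCore 2 H) {v y : H}
    (hv : ∀ g, g * v = v * g) (hy : ∀ q ∈ pCore 2 H, q * y * q⁻¹ = y ∨ q * y * q⁻¹ = y * v) :
    y ∈ pCore 2 H := by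
  have hc : (⊤ : Subgroup H) ≤ 𝐂[zpowers v] :=
    cent_comm (zpowers_le.2 (mem_cent.2 fun g _ => hv g))
  have hn : (⊤ : Subgroup H) ≤ 𝐍[cmod (pCore 2 H) (zpowers v)] :=
    norm_cmod (norm_normal _ _) (norm_of_cent hc)
  have h1 := (chP_top.2 h).pg_of_res_le (D := cmod (pCore 2 H) (zpowers v)) le_top (by
    rw [pCoreOf_top]
    exact res_le_cent_of_two (pCoreOf_top (p := 2) (G := H) ▸ pg_core ⊤) (norm_normal _ _)
      ((commutator_mono le_rfl (res_le _)).trans (comm_cmod_le _ _)) (le_top.trans hc))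
  rw [← pCoreOf_top]
  refine le_pCoreOf le_top hn h1 (mem_cmod.2 ⟨norm_of_cent hc (mem_top y), fun q hq => ?_⟩)
  rw [commutatorElement_def]
  rcases hy q hq with e | e
  · rw [e, mul_inv_cancel]; exact one_mem _
  · rw [e, hv y, mul_inv_cancel_right]; exact mem_zpowers v

theorem constr_top (h : IsPConstrained 2 H) {v : H} (hv : ∀ g, g * v = v * g) {P : Subgroup H}
    (hP : Syl 2 P ⊤) : ∃ Q ≤ P, P ≤ 𝐍[Q] ∧
      (∀ y ∈ P, (∀ q ∈ Q, q * y * q⁻¹ = y ∨ q * y * q⁻¹ = y * v) → y ∈ Q) ∧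
      ∀ c : H, ∀ y ∈ P, c * y * c⁻¹ ∈ P → ∃ n ∈ 𝐍[Q], n * y * n⁻¹ = c * y * c⁻¹ := by
  let π := QuotientGroup.mk' (pPrimeCore 2 H)
  have hπ : Function.Surjective π := QuotientGroup.mk'_surjective _
  have hk : (Nat.card π.ker).Coprime 2 := coprime_card_ker_mk'_pPrimeCore
  have hn : P ≤ 𝐍[P ⊓ pPrimePCore 2 H] := norm_inf le_normalizer (norm_normal _ _)
  have h1 : (P ⊓ pPrimePCore 2 H).map π = pCore 2 (H ⧸ pPrimeCore 2 H) := by
    have h2 := (hP.inf (M := pPrimePCore 2 H) le_top (norm_normal _ _)).map π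
    rw [pPrimePCore, map_comap_eq_self_of_surjective hπ] at h2
    exact (h2.eq_of_le (pCoreOf_top (p := 2) (G := H ⧸ pPrimeCore 2 H) ▸ pg_core ⊤) h2.le
      le_rfl).symm
  refine ⟨_, inf_le_left, hn, fun y hy h2 => ⟨hy, constr_mem (isPConstrained_iff.1 h) (v := π v)
    (y := π y) (fun g => ?_) fun q hq => ?_⟩, fun c y hy h2 => ?_⟩
  · obtain ⟨g, rfl⟩ := hπ g
    rw [← map_mul, hv, map_mul]
  · obtain ⟨q, hq', rfl⟩ := h1.ge hq
    simpa only [map_mul, map_inv] using (h2 q hq').imp (congrArg π) (congrArg π)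
  · obtain ⟨n, hn1, e⟩ : π c ∈ (𝐍[P ⊓ pPrimePCore 2 H]).map π := by
      rw [map_normalizer_of_coprime_ker hπ hk hP.pg.to_inf_left, h1, normalizer_eq_top]
      exact mem_top _
    obtain ⟨k, hk1, e1⟩ := constr_conj hk (mul_mem (mul_mem hn1 (hn hy)) (inv_mem hn1)) (hn h2)
      ((pg_cj hP.pg n).to_le (zpowers_le.2 (conj_mem_cj hy))) (hP.pg.to_le (zpowers_le.2 h2))
      (by simp only [map_mul, map_inv, e])
    exact ⟨k * n, mul_mem hk1 hn1, by rw [← e1]; group⟩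

end

open Cfsg.Agent.Inv.Fz Cfsg.Agent.Rec Subgroup

variable {G : Type*} [Group G] [Finite G]

theorem exists_con {v : G} (hv : v * v = 1) {P : Subgroup G} (hP : IsSylIn 2 P (⊤ ⊓ centralizer {v}))
    (h : Cfsg.IsPConstrained 2 (centralizer ({v} : Set G))) : ∃ Q, Con v P Q := by
  rw [top_inf_eq] at hP
  have h1 := (⟨hP.le, hP.isPGroup, hP.not_dvd_relIndex⟩ : Loc.Mss.Syl 2 P _).subgroupOf le_rfl
  rw [subgroupOf_self] at h1
  obtain ⟨Q, h2, h3, h4, h5⟩ := constr_top h (v := ⟨v, mem_centralizer_singleton_iff.2 rfl⟩)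
    (fun g => Subtype.ext (mem_centralizer_singleton_iff.1 g.2)) h1
  have h6 := map_subgroupOf_eq_of_le hP.le
  refine ⟨Q.map (Subgroup.subtype _), h6 ▸ map_mono h2, h6 ▸ Loc.Mss.map_norm_le _ h3,
    fun y hy h7 => ⟨⟨y, hP.le hy⟩, h4 _ hy fun q hq => ?_, rfl⟩, fun c hc y hy h7 => ?_⟩
  · exact (h7 q ⟨q, hq, rfl⟩).imp Subtype.ext Subtype.ext
  · obtain ⟨n, hn, e⟩ := h5 ⟨c, mem_centralizer_singleton_iff.2 hc⟩ ⟨y, hP.le hy⟩ hy h7
    exact ⟨n, le_normalizer_map _ ⟨n, hn, rfl⟩, mem_centralizer_singleton_iff.1 n.2,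
      congrArg Subtype.val e⟩

end Cfsg.Agent.NE
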