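import Mathlib
import Cfsg.Agent.NE.NC
import Cfsg.Agent.Loc.AmBasic

/-! The centraliser of `u` when `u` is not conjugate to `z`. See `stubs/Cfsg/Agent/NE/PLAN.md`. -/

set_option autoImplicit false
set_option linter.unusedSectionVars false

namespace Cfsg.Agent.NE.B8

open Cfsg.Agent.Inv.Fz Cfsg.Agent.Rec Subgroup

variable {G : Type*} [Group G] [Finite G] {b : B8 G}

/-- An elementary abelian normal subgroup of `T` containing `U`. -/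
structure CuF (b : B8 G) (F : Subgroup G) : Prop where
  le : F ≤ b.T
  norm : b.T ≤ normalizer (F : Set G)
  sq : ∀ x ∈ F, x * x = 1
  U_le : b.U ≤ F

namespace CuF

variable {F : Subgroup G} (h : CuF b F) {s : G} (hs : s ∈ b.S) (hT : s ∉ b.T)
include h

theorem conj {t x : G} (ht : t ∈ b.T) (hx : x ∈ F) : t * x * t⁻¹ ∈ F := (conj_mem_norm (h.norm ht)).2 hx

include hs hT

theorem exists_lam {x y : G} (hx : x ∈ F) (hy : y ∈ F) :
    ∃ l ∈ b.U, s * y * s⁻¹ * x * (s * y * s⁻¹)⁻¹ = x * l := by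
  have h1 : F ⊓ cj s F ≤ b.U := b.le_U (inf_le_left.trans h.le) (fun t ht =>
    mem_normalizer_of_conj_mem fun x hx => by
      have h2 := mem_cj.1 (mem_inf.1 hx).2
      by_cases h3 : t ∈ b.T
      · refine mem_inf.2 ⟨h.conj h3 hx.1, mem_cj.2 ?_⟩
        simpa [mul_assoc] using h.conj (b.conj_T (inv_mem hs) h3) h2
      · refine mem_inf.2 ⟨?_, mem_cj.2 ?_⟩
        · simpa [mul_assoc] using h.conj (b.mul_mem_T ht hs h3 hT) h2
        · simpa [mul_assoc] using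
            h.conj (b.mul_mem_T (inv_mem hs) ht (mt inv_mem_iff.1 hT) h3) hx.1) fun a ha => h.sq a ha.1
  refine ⟨x⁻¹ * (s * y * s⁻¹ * x * (s * y * s⁻¹)⁻¹), h1 (mem_inf.2
    ⟨mul_mem (inv_mem hx) (h.conj (b.conj_T hs (h.le hy)) hx), mem_cj.2 ?_⟩), by group⟩
  simpa [mul_assoc] using
    mul_mem (h.conj (b.conj_T (inv_mem hs) (inv_mem (h.le hx))) hy) (inv_mem hy)

theorem swap {x y l : G} (hx : x ∈ F) (hy : y ∈ F) (hl : l ∈ b.U)
    (hc : ∀ t ∈ b.T, t * y * t⁻¹ * y⁻¹ ∈ b.U)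
    (e : s * y * s⁻¹ * x * (s * y * s⁻¹)⁻¹ = x * l) :
    s * x * s⁻¹ * y * (s * x * s⁻¹)⁻¹ = y * (s * l * s⁻¹) := by
  have h1 := hc _ (b.sq_mem_T hs)
  have h2 := b.conj_T hs (h.le hx)
  have h3 := conj_sq (g := s) (h.sq x hx)
  have h4 : s * s * y * (s * s)⁻¹ * (s * x * s⁻¹) * (s * s * y * (s * s)⁻¹)⁻¹ =
      s * x * s⁻¹ * (s * l * s⁻¹) := by rw [← conj_mul', ← e]; group
  generalize s * x * s⁻¹ = x' at h2 h3 h4 ⊢
  rw [← inv_mul_cancel_right (s * s * y * (s * s)⁻¹) y, ← inv_mul_cancel_right (_ * y⁻¹) y⁻¹⁻¹] at h4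
  generalize s * s * y * (s * s)⁻¹ * y⁻¹ = v at h1 h4
  have h5 := b.TU (mul_mem (mul_mem (h.le hy) h2) (inv_mem (h.le hy))) h1
  have h6 : y * x' * y⁻¹ = x' * (s * l * s⁻¹) := by
    rw [← h4]
    calc _ = y * x' * y⁻¹ * v * v⁻¹ := by group
      _ = _ := by rw [h5]; group
  rw [b.TU (h.le hy) (b.conj_U hs hl), inv_of_sq h3, ← sq_cancel h3 (s * l * s⁻¹), ← h6]
  group

theorem beta {x : G} (hx : x ∈ F) (hU : x ∉ b.U) (hc : ∀ t ∈ b.T, t * x * t⁻¹ * x⁻¹ ∈ b.U) :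
    s * x * s⁻¹ * x * (s * x * s⁻¹)⁻¹ = x * b.z := by
  obtain ⟨l, hl, e⟩ := h.exists_lam hs hT hx hx
  rcases b.U_fix hs hT hl (mul_left_cancel ((h.swap hs hT hx hx hl hc e).symm.trans e)) with rfl | rfl
  swap
  · exact e
  refine (hU (b.n3 (h.le hx) (h.sq x hx) fun t ht => ?_)).elim
  by_cases h1 : t ∈ b.T
  · exact comm_of_sq h.sq hx (h.conj h1 hx)
  have h2 := b.TU (h.le hx)
    (b.conj_U hs (hc _ (b.mul_mem_T (inv_mem hs) ht (mt inv_mem_iff.1 hT) h1)))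
  have h3 := comm_of_conj_eq (e.trans (mul_one x))
  have h4 : t * x * t⁻¹ = s * (s⁻¹ * t * x * (s⁻¹ * t)⁻¹ * x⁻¹) * s⁻¹ * (s * x * s⁻¹) := by group
  rw [h4, ← mul_assoc, h2, mul_assoc, ← h3, ← mul_assoc]

theorem cent_mod {x t : G} (hx : x ∈ F) (ht : t ∈ b.T) : t * x * t⁻¹ * x⁻¹ ∈ b.U := by
  have triv : ∀ v ∈ b.U, t * v * t⁻¹ * v⁻¹ ∈ b.U := fun v hv =>
    mul_mem (b.conj_U ht.1 hv) (inv_mem hv)
  by_cases hU : x ∈ b.U
  · exact triv x hU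
  obtain ⟨f, hf, hfU, -, hc⟩ := exists_central_mod b.pT (b.T_le.trans b.S_norm_U) h.le h.norm
    fun e => hU (e hx)
  have f2 := h.sq f hf
  by_cases h1 : f * x ∈ b.U
  · have := mul_mem (hc t ht) (b.conj_U (h.le hf).1 (triv _ h1))
    rwa [show t * f * t⁻¹ * f⁻¹ * (f * (t * (f * x) * t⁻¹ * (f * x)⁻¹) * f⁻¹) =
      t * (f * f) * x * t⁻¹ * x⁻¹ * (f * f)⁻¹ by group, f2, mul_one, inv_one, mul_one] at this
  have hg := h.conj ht hx
  rcases (eq_E2 h.le h.U_le (b.sec16 (h.le.trans b.T_le) h.sq) (fun a ha => h.sq a ha ▸ one_mem _)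
    hf hx hfU hU h1).2 _ hg with h2 | h2 | h2 | h2
  · exact absurd ((b.conj_U_iff ht.1).1 h2) hU
  · refine absurd ((b.conj_U_iff ht.1).1 ?_) h1
    simpa [mul_assoc] using mul_mem (hc t ht) h2
  · rwa [inv_of_sq (h.sq x hx), comm_of_sq h.sq hg hx]
  exfalso
  obtain ⟨l, hl, e⟩ := h.exists_lam hs hT hx hf
  have e1 := h.beta hs hT hf hfU hc
  have h3 : t * (s * f * s⁻¹) * t⁻¹ * (s * f * s⁻¹)⁻¹ ∈ b.U := by
    simpa [mul_assoc] using b.conj_U hs (hc _ (b.conj_T (inv_mem hs) ht))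
  have h4 := b.conj_T hs (h.le hf)
  generalize s * f * s⁻¹ = f' at e e1 h3 h4
  have e2 : t * f' * t⁻¹ * (t * x * t⁻¹) * (t * f' * t⁻¹)⁻¹ = t * x * t⁻¹ * l := by
    rw [← conj_eq_of_comm (b.TU ht hl), ← conj_mul', ← conj_mul', ← e]; group
  rw [← inv_mul_cancel_right (t * f' * t⁻¹) f'] at e2
  generalize t * f' * t⁻¹ * f'⁻¹ = w at h3 e2
  generalize t * x * t⁻¹ = g at hg h2 e2
  have e3 : f' * g * f'⁻¹ = g * l := by
    rw [← e2]
    calc _ = f' * g * f'⁻¹ * w * w⁻¹ := by group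
      _ = _ := by rw [b.TU (b.conj_T h4.1 (h.le hg)) h3]; group
  have e4 := conj_eq_of_comm (b.TU h4 h2)
  rw [conj_mul', conj_mul', e, e1, e3, mul_assoc (f * b.z), mul_assoc x, ← mul_assoc l,
    ← b.TU (h.le hg) hl, mul_assoc g, b.U_sq hl, mul_one, mul_assoc f x, mul_left_inj,
    mul_eq_left] at e4
  exact b.z_ne e4

end CuF

/-- The conjugates of `z` under `C(u)` inside `T`. -/
def ZZ (b : B8 G) (x : G) : Prop := x ∈ b.T ∧ ∃ c : G, c * b.u = b.u * c ∧ c * b.z * c⁻¹ = x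

theorem ZZ.conj {x t : G} (h : b.ZZ x) (ht : t ∈ b.T) : b.ZZ (t * x * t⁻¹) := by
  obtain ⟨h1, c, h2, rfl⟩ := h
  exact ⟨b.conj_T ht.1 h1, t * c, by rw [mul_assoc, h2, ← mul_assoc, (b.mem_T.1 ht).2, mul_assoc],
    (conj_conj ..).symm⟩

theorem ZZ.isConj {x : G} (h : b.ZZ x) : IsConj x b.z := by
  obtain ⟨-, c, -, rfl⟩ := h
  exact (isConj_iff.2 ⟨c, rfl⟩).symm

theorem ZZ.isConj_u (hC : b.CaseC) {x : G} (h : b.ZZ x) : IsConj b.u (x * b.u) := by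
  obtain ⟨-, c, h1, rfl⟩ := h
  exact (CaseC.isConj b hC).trans (isConj_iff.2 ⟨c, by rw [b.uz, conj_mul', conj_eq_of_comm h1]⟩)

theorem ZZ.eq_z (hC : b.CaseC) (hu : ¬ IsConj b.u b.z) {x : G} (h : b.ZZ x) (hx : x ∈ b.U) : x = b.z := by
  have h1 := h.isConj
  rcases b.mem_U.1 hx with rfl | rfl | rfl | rfl
  exacts [absurd (isConj_one_right.1 h1) b.z_ne, rfl, absurd h1 hu,
    absurd ((CaseC.isConj b hC).trans h1) hu]

theorem exists_cuF {Q : Subgroup G} (hQ : Con b.u b.T Q) : ∃ F, CuF b F ∧ ∀ x, b.ZZ x → x ∈ F := by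
  have key : ∀ v ∈ b.U, v ∈ Loc.Am.omZ 2 Q := fun v hv =>
    Loc.Am.mem_omZ.2 ⟨hQ.mem v (b.U_le hv) fun q hq => Or.inl (conj_eq_of_comm (b.TU (hQ.le hq) hv)),
      fun q hq => b.TU (hQ.le hq) hv, by rw [pow_two, b.U_sq hv]⟩
  refine ⟨_, ⟨(Loc.Am.omZ_le 2 Q).trans hQ.le, hQ.norm.trans (Loc.Am.normalizer_le_normalizer_omZ 2 Q),
    fun x hx => pow_two x ▸ (Loc.Am.mem_omZ.1 hx).2.2, key⟩, ?_⟩
  rintro _ ⟨h1, c, h2, rfl⟩
  obtain ⟨n, hn, -, e⟩ := hQ.ctrl c h2 _ b.zT h1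
  exact e ▸ (conj_mem_norm (Loc.Am.normalizer_le_normalizer_omZ 2 Q hn)).2 (key _ b.zU)

section

variable (hC : b.CaseC) (hu : ¬ IsConj b.u b.z) {Q : Subgroup G} (hQ : Con b.u b.T Q) {f : G}
  (hf : b.ZZ f) (hz : f ≠ b.z)
include hC hu hQ hf hz

theorem cu_beta {s : G} (hs : s ∈ b.S) (hT : s ∉ b.T) : s * f * s⁻¹ * f * (s * f * s⁻¹)⁻¹ = f * b.z := by
  obtain ⟨F, h, h1⟩ := exists_cuF hQ
  exact h.beta hs hT (h1 f hf) (fun e => hz (hf.eq_z hC hu e)) fun t ht => h.cent_mod hs hT (h1 f hf) ht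

theorem cu_fz : b.ZZ (f * b.z) := by
  obtain ⟨s, hs, hT⟩ := id hC
  exact cu_beta hC hu hQ hf hz hs hT ▸ hf.conj (b.conj_T hs hf.1)

theorem cu_not {l : G} (hl : l = b.u ∨ l = b.u * b.z) : ¬ IsConj (f * l) b.z := fun h => by
  rcases hl with rfl | rfl
  · exact hu ((hf.isConj_u hC).trans h)
  · exact hu (((cu_fz hC hu hQ hf hz).isConj_u hC).trans (by rwa [mul_assoc, ← b.uz]))

theorem cu_conj {t : G} (ht : t ∈ b.T) : t * f * t⁻¹ = f ∨ t * f * t⁻¹ = f * b.z := by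
  obtain ⟨s, hs, hT⟩ := id hC
  obtain ⟨F, h, h1⟩ := exists_cuF hQ
  have h2 := h.cent_mod hs hT (h1 f hf) ht
  have e : t * f * t⁻¹ = f * (t * f * t⁻¹ * f⁻¹) := by rw [b.TU hf.1 h2]; group
  rcases b.U_cases h2 with (h3 | h3) | h3
  · exact Or.inl (by rw [e, h3, mul_one])
  · exact Or.inr (by rw [e, h3])
  · exact absurd (e ▸ (hf.conj ht).isConj) (cu_not hC hu hQ hf hz h3)

theorem cu_conj' {s t : G} (hs : s ∈ b.S) (ht : t ∈ b.T) :
    t * (s * f * s⁻¹) * t⁻¹ = s * f * s⁻¹ ∨ t * (s * f * s⁻¹) * t⁻¹ = s * f * s⁻¹ * b.z := by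
  have e : t * (s * f * s⁻¹) * t⁻¹ = s * (s⁻¹ * t * s⁻¹⁻¹ * f * (s⁻¹ * t * s⁻¹⁻¹)⁻¹) * s⁻¹ := by group
  rcases cu_conj hC hu hQ hf hz (b.conj_T (inv_mem hs) ht) with h | h
  · exact Or.inl (by rw [e, h])
  · exact Or.inr (by rw [e, h, conj_mul', b.conj_z hs])

theorem cu_out {s t : G} (hs : s ∈ b.S) (hT : s ∉ b.T) (ht : t ∈ b.S) (hT' : t ∉ b.T) :
    (t * f * t⁻¹ = s * f * s⁻¹ ∨ t * f * t⁻¹ = s * f * s⁻¹ * b.z) ∧
      (t * (s * f * s⁻¹) * t⁻¹ = f ∨ t * (s * f * s⁻¹) * t⁻¹ = f * b.z) := by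
  refine ⟨?_, conj_conj t s f ▸ cu_conj hC hu hQ hf hz (b.mul_mem_T ht hs hT' hT)⟩
  simpa [mul_assoc] using
    cu_conj' hC hu hQ hf hz hs (b.mul_mem_T ht (inv_mem hs) hT' (mt inv_mem_iff.1 hT))

theorem cu_cent {s : G} (hs : s ∈ b.S) (hT : s ∉ b.T) :
    b.T ⊓ centralizer {f} ⊓ centralizer {s * f * s⁻¹} ≤ b.U := by
  by_contra hn
  have key : ∀ x ∈ b.T ⊓ centralizer {f} ⊓ centralizer {s * f * s⁻¹}, ∀ y w : G,
      (w = f ∨ w = s * f * s⁻¹) → (y = w ∨ y = w * b.z) → x * y = y * x := by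
    rintro x ⟨⟨h1, h2⟩, h3⟩ y w h4 h5
    have h6 : Commute x w := by rcases h4 with rfl | rfl; exacts [mem_cen.1 h2, mem_cen.1 h3]
    rcases h5 with rfl | rfl
    exacts [h6, h6.mul_right (b.z_comm x h1.1)]
  obtain ⟨κ, hκ, hk⟩ := hC.exists_kap (inf_le_left.trans inf_le_left) (fun t ht =>
    mem_normalizer_of_conj_mem fun x hx => by
      have h1 : ∀ w : G, x * (t⁻¹ * w * t⁻¹⁻¹) = t⁻¹ * w * t⁻¹⁻¹ * x →
          t * x * t⁻¹ ∈ centralizer {w} := fun w e => mem_cen.2 (by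
        simpa [mul_assoc] using conj_comm t e)
      refine ⟨⟨b.conj_T ht hx.1.1, h1 _ ?_⟩, h1 _ ?_⟩ <;> by_cases h2 : t⁻¹ ∈ b.T
      · exact key x hx _ _ (.inl rfl) (cu_conj hC hu hQ hf hz h2)
      · exact key x hx _ _ (.inr rfl) (cu_out hC hu hQ hf hz hs hT (inv_mem ht) h2).1
      · exact key x hx _ _ (.inr rfl) (cu_conj' hC hu hQ hf hz hs h2)
      · exact key x hx _ _ (.inl rfl) (cu_out hC hu hQ hf hz hs hT (inv_mem ht) h2).2) hn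
  obtain ⟨-, c, h1, e⟩ := id hf
  obtain ⟨g, hg, e1, h2⟩ := exists_extremal (K := centralizer {b.u}) (v := b.z) (x := f) (g := c⁻¹)
    (C := zpowers κ) ((hC.sylCu hu).mono (le_inf inf_le_right fun t ht => mem_cen.2 (b.z_comm t ht.1))
      (le_inf le_top inf_le_left)) (inv_mem (mem_cen.2 h1)) (by rw [← e]; group)
    (b.pT.to_le (zpowers_le.2 hk.mem)) (zpowers_le.2 hk.mem.2)
    fun y hy => (comm_zpowers (mem_cen.1 hκ.1.2).symm hy).symm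
  have h3 := h2 κ (mem_zpowers κ)
  have h4 : g * κ * g⁻¹ * (g * κ * g⁻¹) = g * b.z * g⁻¹ := by rw [← conj_mul', hk.sq]
  have h5 := b.al h3 (by rw [h4]; exact conj_sq b.z_sq)
  rw [h4] at h5
  exact hz (conj_inj.1 (e1.trans (ZZ.eq_z hC hu ⟨b.U_le h5, g, mem_cen.1 hg, rfl⟩ h5).symm))

theorem cu_T {s t : G} (hs : s ∈ b.S) (hT : s ∉ b.T) (ht : t ∈ b.T) :
    t ∈ b.U ∨ f * t ∈ b.U ∨ s * f * s⁻¹ * t ∈ b.U ∨ f * (s * f * s⁻¹) * t ∈ b.U := by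
  have e1 := cu_beta hC hu hQ hf hz hs hT
  have h1 := cu_cent hC hu hQ hf hz hs hT
  have h2 := cu_conj hC hu hQ hf hz ht
  have h3 := cu_conj' hC hu hQ hf hz hs ht
  have h4 := b.conj_T hs hf.1
  generalize s * f * s⁻¹ = f' at *
  have z1 := b.conj_z hf.1.1
  have z2 := b.conj_z h4.1
  have e2 : f * f' * f⁻¹ = f' * b.z := by
    have e3 : f * f' * f⁻¹ = f * b.z * (b.z⁻¹ * f' * b.z⁻¹⁻¹) * (b.z⁻¹ * f⁻¹ * b.z⁻¹⁻¹) * b.z⁻¹ := by group
    rw [e3, b.z_inv, conj_eq_of_comm (b.z_comm f' h4.1).symm,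
      conj_eq_of_comm (b.z_comm _ (inv_mem hf.1.1)).symm, ← e1]
    group
  have key : ∀ x ∈ b.T, x * f * x⁻¹ = f → x * f' * x⁻¹ = f' → x ∈ b.U := fun x hx h5 h6 =>
    h1 ⟨⟨hx, mem_cen'.2 h5⟩, mem_cen'.2 h6⟩
  rcases h2 with h2 | h2 <;> rcases h3 with h3 | h3
  · exact .inl (key t ht h2 h3)
  · refine .inr (.inl (key _ (mul_mem hf.1 ht) ?_ ?_))
    · rw [← conj_conj, h2, mul_inv_cancel_right]
    · rw [← conj_conj, h3, conj_mul', e2, z1, b.zz]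
  · refine .inr (.inr (.inl (key _ (mul_mem h4 ht) ?_ ?_)))
    · rw [← conj_conj, h2, conj_mul', e1, z2, b.zz]
    · rw [← conj_conj, h3, mul_inv_cancel_right]
  · refine .inr (.inr (.inr (key _ (mul_mem (mul_mem hf.1 h4) ht) ?_ ?_)))
    · rw [← conj_conj, ← conj_conj, h2, conj_mul' f', e1, z2, b.zz, mul_inv_cancel_right]
    · rw [← conj_conj, ← conj_conj, h3, conj_mul' f', z2, mul_inv_cancel_right, conj_mul' f, e2, z1,
        b.zz]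

theorem cu_sq {s : G} (hs : s ∈ b.S) (hT : s ∉ b.T) :
    f * (s * f * s⁻¹) * (f * (s * f * s⁻¹)) = b.z := by
  have f2 : f * f = 1 := by
    obtain ⟨-, c, -, rfl⟩ := hf
    exact conj_sq b.z_sq
  have e1 := cu_beta hC hu hQ hf hz hs hT
  rw [inv_of_sq (conj_sq f2)] at e1
  rw [mul_assoc, ← mul_assoc (s * f * s⁻¹), e1, sq_cancel f2]

theorem cu_nc {t : G} (ht : t ∈ b.S) (hT : t ∉ b.T) (h2 : t * t = 1) : b.NC t := by
  refine ⟨ht, hT, h2, fun x hx x2 hc => ?_⟩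
  have h1 := cu_sq hC hu hQ hf hz ht hT
  have h3 : f * (t * f * t⁻¹) ∉ b.U := fun e => b.z_ne (h1.symm.trans (b.U_sq e))
  have h4 := conj_eq_of_comm hc
  have h5 : t * (t * f * t⁻¹) * t⁻¹ = f := by rw [conj_conj, h2]; simp
  have key : f * x ∈ b.U → t * f * t⁻¹ * x ∉ b.U := fun e1 e2 => h3 (by
    have f2 : f * f = 1 := by
      obtain ⟨-, c, -, rfl⟩ := hf
      exact conj_sq b.z_sq
    simpa [mul_assoc, inv_of_sq f2] using mul_mem e1 (inv_mem e2))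
  rcases cu_T hC hu hQ hf hz ht hT hx with h6 | h6 | h6 | h6
  · exact b.U_fix ht hT h6 h4
  · exact absurd (by simpa only [conj_mul', h4] using b.conj_U ht h6) (key h6)
  · exact absurd h6 (key (by simpa only [conj_mul' t (t * f * t⁻¹), h4, h5] using b.conj_U ht h6))
  · have h7 := b.U_sq h6
    have h8 := b.TU hx h6
    generalize f * (t * f * t⁻¹) = y at *
    rw [mul_assoc, h8, mul_assoc y x, x2, mul_one, h1] at h7
    exact absurd h7 b.z_ne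

theorem cu_D : ∃ D ≤ b.T, b.S ≤ normalizer (D : Set G) ∧ b.z ∈ D ∧
    (∀ x ∈ D, x * x = 1 → x = 1 ∨ IsConj x b.z) ∧ ∀ t ∈ b.T, t ∈ D ∨ b.u * t ∈ D := by
  obtain ⟨s, hs, hT⟩ := id hC
  have f2 : f * f = 1 := by
    obtain ⟨-, c, -, rfl⟩ := hf
    exact conj_sq b.z_sq
  have e1 := cu_beta hC hu hQ hf hz hs hT
  have e2 := cu_sq hC hu hQ hf hz hs hT
  have a1 := fun t ht => cu_conj hC hu hQ hf hz (t := t) ht
  have a2 := fun t ht => cu_conj' hC hu hQ hf hz (t := t) hs ht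
  have a3 := fun t ht ht' => cu_out hC hu hQ hf hz (t := t) hs hT ht ht'
  have a4 := fun t ht => cu_T hC hu hQ hf hz (t := t) hs hT ht
  have h4 := b.conj_T hs hf.1
  have c1 : IsConj (s * f * s⁻¹) b.z := (isConj_iff.2 ⟨s, rfl⟩).symm.trans hf.isConj
  have c2 : IsConj (s * f * s⁻¹ * b.z) b.z := (isConj_iff.2 ⟨s, by
    rw [conj_mul', b.conj_z hs]⟩).symm.trans (cu_fz hC hu hQ hf hz).isConj
  have f2' := conj_sq (g := s) f2
  generalize s * f * s⁻¹ = f' at *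
  obtain ⟨m1, m2, -⟩ := ext_elem (A := ⊥) (x := b.z) (by simp) b.z_sq (by simp)
  have m3 : ∀ g, g ∈ ext ⊥ b.z ↔ g = 1 ∨ g = b.z := fun g => by
    rw [m1, mem_bot, mem_bot, mul_eq_one_iff_inv_eq, b.z_inv, eq_comm (b := g)]
  obtain ⟨m4, -, -⟩ := ext_elem m2 f2 fun a ha => by
    rcases (m3 a).1 ha with rfl | rfl
    exacts [by simp, b.z_comm f hf.1.1]
  have zA : b.z ∈ ext (ext ⊥ b.z) f := le_ext _ _ (self_mem_ext _ _)
  have n1 : f' ∈ normalizer (ext (ext ⊥ b.z) f : Set G) := mem_normalizer_of_conj_mem (by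
    rw [← cj_le_iff, cj_ext, cj_ext, cj_bot, b.conj_z h4.1, e1, ext_le]
    exact ⟨le_ext _ _, mul_mem (self_mem_ext _ _) zA⟩)
  have zD : b.z ∈ ext (ext (ext ⊥ b.z) f) f' := le_ext _ _ zA
  have fD : f ∈ ext (ext (ext ⊥ b.z) f) f' := le_ext _ _ (self_mem_ext _ _)
  have fD' : f' ∈ ext (ext (ext ⊥ b.z) f) f' := self_mem_ext _ _
  have key : ∀ {y w}, w ∈ ext (ext (ext ⊥ b.z) f) f' → y = w ∨ y = w * b.z →
      y ∈ ext (ext (ext ⊥ b.z) f) f' := by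
    rintro y w hw (rfl | rfl)
    exacts [hw, mul_mem hw zD]
  refine ⟨_, ext_le.2 ⟨ext_le.2 ⟨ext_le.2 ⟨bot_le, b.zT⟩, hf.1⟩, h4⟩, fun t ht =>
    mem_normalizer_of_conj_mem ?_, zD, fun x hx x2 => ?_, fun t ht => ?_⟩
  · rw [← cj_le_iff, cj_ext, cj_ext, cj_ext, cj_bot, b.conj_z ht, ext_le, ext_le, ext_le]
    by_cases h1 : t ∈ b.T
    exacts [⟨⟨⟨bot_le, zD⟩, key fD (a1 t h1)⟩, key fD' (a2 t h1)⟩,
      ⟨⟨⟨bot_le, zD⟩, key fD' (a3 t ht h1).1⟩, key fD (a3 t ht h1).2⟩]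
  · have m5 : ∀ y g : G, y * y = 1 → y * g ∈ ext ⊥ b.z → g = y ∨ g = y * b.z := fun y g y2 h =>
      ((m3 _).1 h).imp (fun e => by rw [← sq_cancel y2 g, e, mul_one])
        fun e => by rw [← sq_cancel y2 g, e]
    rcases (mem_ext n1 (f2' ▸ one_mem _)).1 hx with h1 | h1 <;> rcases (m4 _).1 h1 with h2 | h2
    · rcases (m3 _).1 h2 with rfl | rfl
      exacts [.inl rfl, .inr (IsConj.refl _)]
    · rcases m5 f x f2 h2 with rfl | rfl
      exacts [.inr hf.isConj, .inr (cu_fz hC hu hQ hf hz).isConj]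
    · rcases m5 f' x f2' h2 with rfl | rfl
      exacts [.inr c1, .inr c2]
    · have h3 : f * f' * x ∈ b.U := by
        rw [mul_assoc]
        rcases (m3 _).1 h2 with e | e <;> rw [e]
        exacts [one_mem _, b.zU]
      have h7 := b.U_sq h3
      have h8 := b.TU ((mul_mem_cancel_left (mul_mem hf.1 h4)).1 (b.U_le h3)) h3
      generalize f * f' = y at *
      rw [mul_assoc, h8, mul_assoc y x, x2, mul_one, e2] at h7
      exact absurd h7 b.z_ne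
  · have m6 : ∀ y ∈ ext (ext (ext ⊥ b.z) f) f', y ∈ b.T → y * t ∈ b.U →
        t ∈ ext (ext (ext ⊥ b.z) f) f' ∨ b.u * t ∈ ext (ext (ext ⊥ b.z) f) f' := fun y hy hy' h => by
      rw [← mul_mem_cancel_left hy, ← mul_mem_cancel_left (y := b.u * t) hy,
        comm_assoc (b.mem_T.1 hy').2]
      rcases b.mem_U.1 h with e | e | e | e <;> rw [e]
      exacts [.inl (one_mem _), .inl zD, .inr (b.u_sq ▸ one_mem _), .inr (sq_cancel b.u_sq _ ▸ zD)]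
    rcases a4 t ht with h1 | h1 | h1 | h1
    exacts [m6 1 (one_mem _) (one_mem _) (by rwa [one_mul]), m6 f fD hf.1 h1, m6 f' fD' h4 h1,
      m6 _ (mul_mem fD fD') (mul_mem hf.1 h4) h1]

end

theorem cu_transfer (hi : NoIdx G) (hu : ¬ IsConj b.u b.z) (h0 : ∀ t ∈ b.S, t * t = 1 → t ∈ b.T)
    {D : Subgroup G} (h1 : D ≤ b.T) (hn : b.S ≤ normalizer (D : Set G)) (hz : b.z ∈ D)
    (h2 : ∀ x ∈ D, x * x = 1 → x = 1 ∨ IsConj x b.z) (h3 : ∀ t ∈ b.T, t ∈ D ∨ b.u * t ∈ D) : False := by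
  have fin : ∀ g : G, g * b.u * g⁻¹ ∉ D := fun g hg => by
    rcases h2 _ hg (conj_sq b.u_sq) with e | e
    exacts [b.u_ne (by simpa using e), hu ((isConj_iff.2 ⟨g, rfl⟩).trans e)]
  have two : ∀ x ∈ b.T, ∀ y ∈ b.T, x ∉ D → y ∉ D → x * y ∈ D := fun x hx y hy hx' hy' => by
    have := mul_mem ((h3 x hx).resolve_left hx') ((h3 y hy).resolve_left hy')
    rwa [← (b.mem_T.1 hx).2, mul_assoc, sq_cancel b.u_sq] at this
  have cm : ∀ {s x}, s ∈ b.S → (s * x * s⁻¹ ∈ D ↔ x ∈ D) := fun hs => conj_mem_norm (hn hs)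
  by_cases h4 : ∃ s ∈ b.S, s ∉ b.T ∧ s * s ∈ D
  · obtain ⟨s, hs, hT, h4⟩ := h4
    have m := fun g => mem_ext (g := g) (hn hs) h4
    obtain ⟨g, h5, h6, -⟩ := hi.transfer2 b.syl (M := ext D s) (fun x hx y hy hx' hy' => by
      rw [m, not_or] at hx' hy'
      rw [m]
      by_cases h5 : x ∈ b.T <;> by_cases h6 : y ∈ b.T
      · exact .inl (two x h5 y h6 hx'.1 hy'.1)
      · simpa [mul_assoc] using Or.inr
          (two _ (b.conj_T hs h5) _ (b.mul_mem_T hs hy hT h6) (mt (cm hs).1 hx'.1) hy'.2)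
      · exact .inr (mul_assoc s x y ▸ two _ (b.mul_mem_T hs hx hT h5) y h6 hx'.2 hy'.1)
      · have h7 := two _ (b.conj_T (inv_mem hs) (b.mul_mem_T hs hx hT h5)) _
          (mul_mem (inv_mem (h1 h4)) (b.mul_mem_T hs hy hT h6)) (mt (cm (inv_mem hs)).1 hx'.2)
          (mt (mul_mem_cancel_left (inv_mem h4)).1 hy'.2)
        exact .inl (by simpa [mul_assoc] using h7)) b.u_sq (C := ⊥) IsPGroup.of_bot (by simp)
    rcases (m _).1 h5 with h7 | h7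
    · exact fin g h7
    · exact hT ((mul_mem_cancel_right (h0 _ h6 (conj_sq b.u_sq))).1 (h1 h7))
  have h5 : ∀ x ∈ b.S, ∀ t ∈ b.T, x * t * x⁻¹ * t⁻¹ ∈ D := fun x hx t ht => by
    by_cases h5 : t ∈ D
    · exact mul_mem ((cm hx).2 h5) (inv_mem h5)
    · exact two _ (b.conj_T hx ht) _ (inv_mem ht) (mt (cm hx).1 h5) (mt inv_mem_iff.1 h5)
  obtain ⟨g, h6, -⟩ := hi.transfer b.syl (M := D) (fun x hx y hy => by
    by_cases h6 : y ∈ b.T
    · exact h5 x hx y h6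
    by_cases h7 : x ∈ b.T
    · simpa [mul_assoc] using inv_mem (h5 y hy x h7)
    · simpa [mul_assoc] using h5 x hx _ (b.mul_mem_T hy (inv_mem hx) h6 (mt inv_mem_iff.1 h7)))
    (fun x hx y hy h6 h7 => two x (by_contra fun e => h4 ⟨x, hx, e, h6⟩) y
      (by_contra fun e => h4 ⟨y, hy, e, h7⟩)) b.u_sq (C := ⊥) IsPGroup.of_bot (by simp)
  exact fin g h6

theorem isoU_or (hi : NoIdx G) (ho : b.NoIso) (hC : b.CaseC) (hu : ¬ IsConj b.u b.z) {Q : Subgroup G}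
    (hQ : Con b.u b.T Q) : b.IsoU ∨ TypeJ b.S := by
  refine or_iff_not_imp_left.2 fun h => ?_
  simp only [IsoU, not_forall] at h
  obtain ⟨c, h1, h2, hz⟩ := h
  have hf : b.ZZ (c * b.z * c⁻¹) := ⟨h2, c, h1, rfl⟩
  by_cases h0 : ∀ t ∈ b.S, t * t = 1 → t ∈ b.T
  · obtain ⟨D, d1, d2, d3, d4, d5⟩ := cu_D hC hu hQ hf hz
    exact (cu_transfer hi hu h0 d1 d2 d3 d4 d5).elim
  · simp only [not_forall] at h0
    obtain ⟨t, ht, h3, hT⟩ := h0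
    exact (cu_nc hC hu hQ hf hz ht hT h3).typeJ hi ho

end Cfsg.Agent.NE.B8
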